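import Groth.Agent.NegTwist.Basic
import Groth.Agent.CohFinite.AmpleH1
import Groth.Agent.W7Cech.GlobSec
import Groth.Agent.W7Hull.InvDual
import Groth.Agent.S1576
import Groth.Agent.S0002
import Groth.Agent.ParaFLib.Ext

/-!
Sections of strongly negative twists vanish when no associated point is closed.
-/

set_option autoImplicit false
set_option backward.isDefEq.respectTransparency false

universe u

open CategoryTheory CategoryTheory.Limits AlgebraicGeometry TopologicalSpace Opposite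
open Groth.Agent.QC (res resO res_res res_self res_smul resO_resO app_res)
open Groth.Agent.WeakAssLib

noncomputable section

namespace Groth.Agent.NegTwist

variable {X : Scheme.{u}}

/-- In a scheme proper over a field, a point whose closure lies in an affine open is closed. -/
theorem isClosed_singleton_of_closure_le (k : Type u) [Field k] (p : X ⟶ Spec (CommRingCat.of k)) [IsProper p]
    {η : X} {U : X.Opens} (hU : IsAffineOpen U) (h : closure ({η} : Set X) ⊆ U) : IsClosed ({η} : Set X) := by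
  let I := Scheme.IdealSheafData.vanishingIdeal (⟨closure {η}, isClosed_closure⟩ : Closeds X)
  have hr : Set.range I.subschemeι = closure ({η} : Set X) := by
    rw [Scheme.IdealSheafData.range_subschemeι]
    simp [I, Scheme.IdealSheafData.coe_support_vanishingIdeal]
  have htop : I.subschemeι ⁻¹ᵁ U = ⊤ := top_le_iff.mp fun z _ => h (hr.le ⟨z, rfl⟩)
  haveI : IsAffine (Scheme.Opens.toScheme (⊤ : I.subscheme.Opens)) := (htop ▸ hU.preimage I.subschemeι : IsAffineOpen (⊤ : I.subscheme.Opens))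
  haveI : IsAffine I.subscheme := .of_isIso I.subscheme.topIso.inv
  haveI : IsAffineHom (I.subschemeι ≫ p) := isAffineHom_of_isAffine _
  haveI : IsFinite (I.subschemeι ≫ p) := IsFinite.iff_isProper_and_isAffineHom.mpr ⟨inferInstance, inferInstance⟩
  haveI : DiscreteTopology I.subscheme := by
    have hd := (I.subschemeι ≫ p).isDiscrete_preimage_singleton (default : PrimeSpectrum k)
    have he : (I.subschemeι ≫ p) ⁻¹' {(default : PrimeSpectrum k)} = Set.univ :=
      Set.eq_univ_of_forall fun z => Subsingleton.elim (α := PrimeSpectrum k) _ _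
    rw [he] at hd
    haveI := hd.to_subtype
    exact (Homeomorph.Set.univ _).discreteTopology
  obtain ⟨z, hz⟩ : η ∈ Set.range I.subschemeι := hr.ge (subset_closure rfl)
  rw [← hz, ← Set.image_singleton]
  exact I.subschemeι.isClosedEmbedding.isClosedMap _ (isClosed_discrete _)

theorem nonempty_pow_tensor_pow {L M : X.Modules} (e : CohB1.tensorMod L M ≅ Coh.structureModule X) (m : ℕ) :
    Nonempty (CohB1.tensorMod (CohB1.tensorPow M m) (CohB1.tensorPow L m) ≅ Coh.structureModule X) := by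
  obtain ⟨e₃⟩ : Nonempty (CohB1.tensorPow (Coh.structureModule X) m ≅ Coh.structureModule X) := by
    induction m with
    | zero => exact ⟨Iso.refl _⟩
    | succ i ih =>
      obtain ⟨f⟩ := ih
      exact ⟨PicGrp.tensorModIso f (Iso.refl _) ≪≫ SecTwist.unitorR _⟩
  obtain ⟨e₁⟩ := TMul.nonempty_powTensorIso M (L' := L) m
  obtain ⟨e₂⟩ := TMul.nonempty_powCongr (TMul.commIso M L ≪≫ e) m
  exact ⟨e₁.symm ≪≫ e₂ ≪≫ e₃⟩

theorem isInvertible_inverse {L M : X.Modules} (hL : PicF.IsInvertible L)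
    (e : CohB1.tensorMod L M ≅ Coh.structureModule X) : PicF.IsInvertible M := by
  obtain ⟨L', hL', ⟨e'⟩⟩ := W7Hull.exists_tensor_inverse hL
  refine Groth.Agent.ParaFLib.isInvertible_of_iso (?_ : L' ≅ M) hL'
  exact (SecTwist.unitorR L').symm ≪≫ PicGrp.tensorModIso (Iso.refl L') e.symm ≪≫
    (TMul.assocIso L' L M).symm ≪≫ PicGrp.tensorModIso (TMul.commIso L' L ≪≫ e') (Iso.refl M) ≪≫
    TMul.leftUnitIso M

theorem exists_stable_index (d : ℕ → ℕ) (hd : ∀ j, d (j + 1) ≤ d j) :
    ∃ j₀, ∀ j, j₀ ≤ j → d j = d j₀ := by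
  obtain ⟨j₀, hj₀⟩ := WellFoundedLT.antitone_chain_condition (antitone_nat_of_succ_le hd)
  exact ⟨j₀, fun j hj => (hj₀ j hj).symm⟩

/-- The tower of twists dies. -/
theorem exists_tower_zero (k : Type u) [Field k] [X.Over (Spec (CommRingCat.of k))]
    [IsProper (X ↘ (Spec (CommRingCat.of k)))] (F : X.Modules) (hF : Coh.IsCoh F)
    (hass : ∀ x : X, IsClosed ({x} : Set X) → ¬ Curv2.IsAssPoint F x)
    (R : ℕ → X.Modules) (hR : ∀ j, PicF.IsInvertible (R j)) {P : X.Modules} (hP : PicF.IsInvertible P)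
    (ψ : ∀ j, R (j + 1) ≅ CohB1.tensorMod (R j) P) {τ : P ⟶ Coh.structureModule X} {U : X.Opens}
    (hU : IsAffineOpen U) (hτ : IsLocusOf τ U) (hUass : ∀ y : X, Curv2.IsAssPoint F y → y ∈ U) :
    ∃ j₀, ∀ j, j₀ ≤ j → Subsingleton Γ(CohB1.tensorMod F (R j), ⊤) := by
  haveI : IsLocallyNoetherian X := LocallyOfFiniteType.isLocallyNoetherian (X ↘ (Spec (CommRingCat.of k)))
  haveI : F.IsQuasicoherent := hF.1
  have hcoh : ∀ j, Coh.IsCoh (CohB1.tensorMod F (R j)) := fun j =>
    ⟨TMul.isQCoh_tensor (hR j), TMul.isFT_tensor (hR j) hF.2⟩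
  let V := fun j => (CohIII.globalSectionsA k).obj (CohB1.tensorMod F (R j))
  haveI : ∀ j, Module.Finite k (V j) := fun j =>
    haveI := Groth.Agent.S0002.result k X _ (hcoh j) 0
    Module.Finite.equiv (W7Cech.gsH0L k (CohB1.tensorMod F (R j))).symm
  let φ : ∀ j, V (j + 1) →ₗ[k] V j := fun j => ((CohIII.globalSectionsA k).map (down F (ψ j) τ)).hom
  have hφ : ∀ j (w : Γ(CohB1.tensorMod F (R (j + 1)), ⊤)),
      φ j w = (down F (ψ j) τ).app ⊤ w := fun j w => rfl
  have hinj : ∀ j, Function.Injective (φ j) := fun j =>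
    down_app_injective hF.1 (hR j) (hR (j + 1)) hP (ψ j) hτ hUass ⊤
  obtain ⟨j₀, hj₀⟩ := exists_stable_index (fun j => Module.finrank k (V j))
    fun j => LinearMap.finrank_le_finrank_of_injective (hinj j)
  have hsurj : ∀ j, j₀ ≤ j → Function.Surjective (φ j) := fun j hj =>
    (LinearMap.injective_iff_surjective_of_finrank_eq_finrank
      ((hj₀ (j + 1) (hj.trans (Nat.le_succ j))).trans (hj₀ j hj).symm)).mp (hinj j)
  refine ⟨j₀, fun j hj => subsingleton_of_forall_eq 0 fun v => ?_⟩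
  refine eq_zero_of_tensor hF.1 (hR j) v fun η _ hη => ?_
  have hnc : ¬ IsClosed ({η} : Set X) := fun hc => hass η hc hη
  obtain ⟨x, hηx, hxU⟩ : ∃ x, η ⤳ x ∧ x ∉ U := by
    by_contra! hall
    exact hnc (isClosed_singleton_of_closure_le k (X ↘ (Spec (CommRingCat.of k))) hU
      fun x hx => hall x (specializes_iff_mem_closure.mpr hx))
  have hxt : x ∈ (⊤ : X.Opens) := trivial
  have hdiv : ∀ i j, j₀ ≤ j → ∀ w : Γ(CohB1.tensorMod F (R j), ⊤),
      mgerm (CohB1.tensorMod F (R j)) hxt w ∈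
        IsLocalRing.maximalIdeal (X.presheaf.stalk x) ^ i •
          (⊤ : Submodule (X.presheaf.stalk x) ((CohB1.tensorMod F (R j)).presheaf.stalk x)) := fun i => by
    induction i with
    | zero => intro j _ w; simp
    | succ i ih =>
      intro j hj w
      obtain ⟨w', rfl⟩ := hsurj j hj w
      exact mgerm_down_mem (hR j) hP (ψ j) hτ hxU hxt i w' (ih (j + 1) (hj.trans (Nat.le_succ j)) w')
  have h0 : mgerm (CohB1.tensorMod F (R j)) hxt v = 0 := by
    haveI : IsNoetherianRing (X.presheaf.stalk x) := inferInstance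
    haveI := SupportLib.finite_stalk (hq := (hcoh j).1) (CohB1.tensorMod F (R j)) (hcoh j).2 x
    have hmem : mgerm (CohB1.tensorMod F (R j)) hxt v ∈
        (⨅ i : ℕ, IsLocalRing.maximalIdeal (X.presheaf.stalk x) ^ i •
          (⊤ : Submodule (X.presheaf.stalk x) ((CohB1.tensorMod F (R j)).presheaf.stalk x))) :=
      Submodule.mem_iInf _ |>.mpr fun i => hdiv i j hj v
    rwa [Ideal.iInf_pow_smul_eq_bot_of_isLocalRing _ (IsLocalRing.maximalIdeal.isMaximal _).ne_top,
      Submodule.mem_bot] at hmem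
  obtain ⟨W, hxW, i₁, i₂, he⟩ := TopCat.Presheaf.germ_eq (CohB1.tensorMod F (R j)).presheaf x
    hxt hxt v 0 (h0.trans (map_zero _).symm)
  have hηW : η ∈ W := hηx.mem_open W.2 hxW
  rw [← mgerm_res _ i₁.le hηW v]
  exact (congrArg (mgerm _ hηW) (he.trans (map_zero _))).trans (map_zero _)

/-- **Vanishing of strongly negative twists.** -/
theorem subsingleton_h0 (k : Type u) [Field k] [X.Over (Spec (CommRingCat.of k))]
    [IsProper (X ↘ (Spec (CommRingCat.of k)))] (L : X.Modules) (hL : CohB1.IsAmple L) (M : X.Modules)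
    (hM : ClSub.IsInverseOf L M) (F : X.Modules) (hF : Coh.IsCoh F)
    (hass : ∀ x : X, IsClosed ({x} : Set X) → ¬ Curv2.IsAssPoint F x) :
    ∃ n₀ : ℕ, ∀ n : ℕ, n₀ ≤ n → Subsingleton (Coh.HH X (CohB1.tensorMod F (CohB1.tensorPow M n)) 0) := by
  classical
  obtain ⟨eM⟩ := hM
  haveI : IsLocallyNoetherian X := LocallyOfFiniteType.isLocallyNoetherian (X ↘ (Spec (CommRingCat.of k)))
  haveI : CompactSpace X := hL.2.1
  have hfin : {x : X | x ∈ (⊤ : X.Opens) ∧ Curv2.IsAssPoint F x}.Finite :=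
    Groth.Agent.S1576.result X F hF ⊤ isCompact_univ
  obtain ⟨m, σ, hσass, -, hσa⟩ := TMul.exists_finite_le hL hfin (U := ⊤) (fun x hx => hx.1)
  obtain ⟨e⟩ := nonempty_pow_tensor_pow eM (m + 1)
  obtain ⟨τ, hτ⟩ := exists_locus_map (TMul.isInvertible_tensorPow hL.1 (m + 1)) e σ
  have hMi := isInvertible_inverse hL.1 eM
  have key : ∀ r : Fin (m + 1), ∃ j₀, ∀ j, j₀ ≤ j →
      Subsingleton Γ(CohB1.tensorMod F (CohB1.tensorPow M (r.1 + j * (m + 1))), ⊤) := fun r => by
    have hψ : ∀ j, Nonempty (CohB1.tensorPow M (r.1 + (j + 1) * (m + 1)) ≅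
        CohB1.tensorMod (CohB1.tensorPow M (r.1 + j * (m + 1))) (CohB1.tensorPow M (m + 1))) := fun j => by
      rw [add_mul, one_mul, ← add_assoc]
      exact (TMul.nonempty_powAddIso M (r.1 + j * (m + 1)) (m + 1)).map Iso.symm
    exact exists_tower_zero k F hF hass (fun j => CohB1.tensorPow M (r.1 + j * (m + 1)))
      (fun j => TMul.isInvertible_tensorPow hMi _) (TMul.isInvertible_tensorPow hMi _)
      (fun j => (hψ j).some) hσa hτ fun y hy => hσass ⟨trivial, hy⟩
  choose j₀ hj₀ using key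
  refine ⟨(Finset.univ.sup j₀ + 1) * (m + 1), fun n hn => ?_⟩
  have hn' : n = n % (m + 1) + n / (m + 1) * (m + 1) := (Nat.mod_add_div' n (m + 1)).symm
  have hle : j₀ ⟨n % (m + 1), Nat.mod_lt _ (Nat.succ_pos m)⟩ ≤ n / (m + 1) :=
    (Finset.le_sup (f := j₀) (Finset.mem_univ _)).trans
      ((Nat.le_succ _).trans ((Nat.le_div_iff_mul_le (Nat.succ_pos m)).mpr hn))
  haveI := hj₀ ⟨n % (m + 1), Nat.mod_lt _ (Nat.succ_pos m)⟩ _ hle
  rw [hn']
  exact @Equiv.subsingleton _ _ (W7Cech.gsH0 k _).symm.toEquiv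
    (hj₀ ⟨n % (m + 1), Nat.mod_lt _ (Nat.succ_pos m)⟩ _ hle)

end Groth.Agent.NegTwist
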