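import Groth.Agent.NegTwist.Basic
import Groth.Agent.LocH.DepthMisc
import Groth.Prelude.Def_CAlg

/-!
Stalks of twists by invertible modules, and the consequence of depth at least two.
-/

set_option autoImplicit false
set_option backward.isDefEq.respectTransparency false

universe u

open CategoryTheory CategoryTheory.Limits AlgebraicGeometry TopologicalSpace Opposite
open Groth.Agent.QC (res resO res_res res_self res_smul resO_resO app_res)
open Groth.Agent.WeakAssLib

noncomputable section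

namespace Groth.Agent.NegTwist

variable {X : Scheme.{u}} {F R : X.Modules}

theorem mgerm_tm_congr {x : X} {D V₁ V₂ : X.Opens} (e : Γ(R, D)) (h₁ : V₁ ≤ D) (h₂ : V₂ ≤ D)
    (hx₁ : x ∈ V₁) (hx₂ : x ∈ V₂) {n₁ : Γ(F, V₁)} {n₂ : Γ(F, V₂)}
    (h : mgerm F hx₁ n₁ = mgerm F hx₂ n₂) :
    mgerm (CohB1.tensorMod F R) hx₁ (TMul.tm n₁ (res R h₁ e)) =
      mgerm (CohB1.tensorMod F R) hx₂ (TMul.tm n₂ (res R h₂ e)) := by
  obtain ⟨W, hxW, i₁, i₂, he⟩ := TopCat.Presheaf.germ_eq F.presheaf x hx₁ hx₂ n₁ n₂ h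
  rw [← mgerm_res _ i₁.le hxW, ← mgerm_res _ i₂.le hxW, TMul.res_tm, TMul.res_tm, res_res, res_res]
  exact congrArg (fun v => mgerm _ hxW (TMul.tm v _)) he

/-- The stalks of `F ⊗ R` at a point where `R` has a generator `e`. -/
theorem exists_stalkEquiv {x : X} {D : X.Opens} (hxD : x ∈ D) {e : Γ(R, D)} (he : TMul.IsGen e) :
    ∃ Φ : F.presheaf.stalk x ≃ₗ[X.presheaf.stalk x] (CohB1.tensorMod F R).presheaf.stalk x,
      ∀ (V : X.Opens) (hV : V ≤ D) (hx : x ∈ V) (n : Γ(F, V)),
        Φ (mgerm F hx n) = mgerm (CohB1.tensorMod F R) hx (TMul.tm n (res R hV e)) := by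
  have hrep : ∀ t : F.presheaf.stalk x, ∃ (V : X.Opens) (_ : V ≤ D) (hx : x ∈ V) (n : Γ(F, V)),
      mgerm F hx n = t := fun t => by
    obtain ⟨W, hxW, s, hs⟩ := F.presheaf.exists_germ_eq (x := x) t
    exact ⟨W ⊓ D, inf_le_right, ⟨hxW, hxD⟩, res F inf_le_left s, (mgerm_res F _ _ s).trans hs⟩
  choose V hV hxV n hn using hrep
  let f : F.presheaf.stalk x → (CohB1.tensorMod F R).presheaf.stalk x := fun t =>
    mgerm (CohB1.tensorMod F R) (hxV t) (TMul.tm (n t) (res R (hV t) e))
  have hf : ∀ (W : X.Opens) (hW : W ≤ D) (hx : x ∈ W) (m : Γ(F, W)),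
      f (mgerm F hx m) = mgerm (CohB1.tensorMod F R) hx (TMul.tm m (res R hW e)) := fun W hW hx m =>
    mgerm_tm_congr e _ hW _ hx (hn _)
  have hadd : ∀ a b, f (a + b) = f a + f b := fun a b => by
    have hx : x ∈ V a ⊓ V b := ⟨hxV a, hxV b⟩
    have hab : a + b = mgerm F hx (res F inf_le_left (n a) + res F inf_le_right (n b)) := by
      rw [map_add, mgerm_res, mgerm_res, hn, hn]
    conv_lhs => rw [hab]
    rw [hf _ (inf_le_left.trans (hV a)), TMul.tm_add, map_add]
    refine congr_arg₂ (· + ·) ?_ ?_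
    · rw [← hf _ (inf_le_left.trans (hV a)) hx, mgerm_res, hn]
    · rw [← hf _ (inf_le_left.trans (hV a)) hx, mgerm_res, hn]
  have hsmul : ∀ (c : X.presheaf.stalk x) a, f (c • a) = c • f a := fun c a => by
    obtain ⟨W, hxW, d, rfl⟩ := X.presheaf.exists_germ_eq (x := x) c
    have hx : x ∈ W ⊓ V a := ⟨hxW, hxV a⟩
    have hd : X.presheaf.germ W x hxW d = X.presheaf.germ (W ⊓ V a) x hx (resO X inf_le_left d) :=
      (TopCat.Presheaf.germ_res_apply X.presheaf (homOfLE (inf_le_left : W ⊓ V a ≤ W)) x hx d).symm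
    have hca : X.presheaf.germ W x hxW d • a =
        mgerm F hx (resO X (inf_le_left : W ⊓ V a ≤ W) d • res F (inf_le_right : W ⊓ V a ≤ V a) (n a)) := by
      rw [mgerm_smul, mgerm_res, hn]
      exact congrArg (· • a) hd
    rw [hca, hf _ (inf_le_right.trans (hV a)), TMul.smul_tm, mgerm_smul]
    refine congr_arg₂ (· • ·) hd.symm ?_
    rw [← hf _ (inf_le_right.trans (hV a)) hx, mgerm_res, hn]
  let fL : F.presheaf.stalk x →ₗ[X.presheaf.stalk x] (CohB1.tensorMod F R).presheaf.stalk x :=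
    { toFun := f, map_add' := hadd, map_smul' := hsmul }
  refine ⟨LinearEquiv.ofBijective fL ⟨?_, ?_⟩, hf⟩
  · rw [injective_iff_map_eq_zero]
    intro t ht
    obtain ⟨W, hxW, i₁, i₂, he'⟩ := TopCat.Presheaf.germ_eq (CohB1.tensorMod F R).presheaf x (hxV t) (hxV t)
      (TMul.tm (n t) (res R (hV t) e)) 0 ((show f t = 0 from ht).trans (map_zero _).symm)
    rw [← hn t, ← mgerm_res F i₁.le hxW]
    suffices h0 : res F i₁.le (n t) = 0 by rw [h0, map_zero]
    refine (TMul.tm_bijective he W (i₁.le.trans (hV t))).1 ?_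
    dsimp only
    rw [TMul.zero_tm, ← res_res R i₁.le (hV t), ← TMul.res_tm]
    exact he'.trans (map_zero _)
  · intro t
    obtain ⟨W, hxW, s, hs⟩ := (CohB1.tensorMod F R).presheaf.exists_germ_eq (x := x) t
    obtain ⟨m, hm⟩ := (TMul.tm_bijective he (W ⊓ D) inf_le_right).2 (res _ inf_le_left s)
    have hx : x ∈ W ⊓ D := ⟨hxW, hxD⟩
    refine ⟨mgerm F hx m, (hf _ inf_le_right hx m).trans ?_⟩
    exact ((congrArg (mgerm _ hx) hm).trans (mgerm_res _ _ hx s)).trans hs

theorem depth_tensor (hR : PicF.IsInvertible R) (x : X) :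
    LocCoh.depth (X.presheaf.stalk x) ((CohB1.tensorMod F R).presheaf.stalk x) =
      LocCoh.depth (X.presheaf.stalk x) (F.presheaf.stalk x) := by
  obtain ⟨D, e, hxD, he⟩ := TMul.exists_isGen hR x
  obtain ⟨Φ, -⟩ := exists_stalkEquiv (F := F) hxD he
  exact LocH.idealDepth_congr Φ.symm _

theorem isAssPoint_tensor (hR : PicF.IsInvertible R) (x : X) :
    Curv2.IsAssPoint (CohB1.tensorMod F R) x ↔ Curv2.IsAssPoint F x := by
  obtain ⟨D, e, hxD, he⟩ := TMul.exists_isGen hR x
  obtain ⟨Φ, -⟩ := exists_stalkEquiv (F := F) hxD he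
  exact ⟨fun h => h.map_of_injective Φ.symm.toLinearMap Φ.symm.injective,
    fun h => h.map_of_injective Φ.toLinearMap Φ.injective⟩

section Algebra

variable {A : Type*} [CommRing A] [IsLocalRing A] {N : Type*} [AddCommGroup N] [Module A N] [Module.Finite A N]

theorem exists_regular_pair (h : 2 ≤ LocCoh.depth A N) :
    Subsingleton N ∨ ∃ a b : A, a ∈ IsLocalRing.maximalIdeal A ∧ b ∈ IsLocalRing.maximalIdeal A ∧
      IsSMulRegular N a ∧ ∀ v z : N, b • v = a • z → ∃ z' : N, v = a • z' := by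
  by_cases htop : IsLocalRing.maximalIdeal A • (⊤ : Submodule A N) = ⊤
  · left
    have h0 : (⊤ : Submodule A N) ≤ ⊥ :=
      Submodule.le_of_le_smul_of_le_jacobson_bot Module.Finite.fg_top
        (IsLocalRing.maximalIdeal_le_jacobson _) (by rw [htop]; simp)
    exact subsingleton_of_forall_eq 0 fun v => (Submodule.mem_bot A).mp (h0 trivial)
  · right
    rw [LocCoh.depth, LocCoh.idealDepth, if_neg htop] at h
    by_contra hne
    have hle : (⨆ (rs : List A) (_ : RingTheory.Sequence.IsWeaklyRegular N rs ∧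
        ∀ r ∈ rs, r ∈ IsLocalRing.maximalIdeal A), (rs.length : ℕ∞)) ≤ 1 := by
      refine iSup₂_le fun rs hrs => ?_
      match rs, hrs with
      | [], _ => simp
      | [a], _ => simp
      | a :: b :: l, ⟨hreg, hmem⟩ =>
        exfalso
        rw [RingTheory.Sequence.isWeaklyRegular_cons_iff, RingTheory.Sequence.isWeaklyRegular_cons_iff] at hreg
        refine hne ⟨a, b, hmem a (by simp), hmem b (by simp), hreg.1, fun v z hvz => ?_⟩
        have h2 : b • (Submodule.Quotient.mk v : QuotSMulTop a N) = 0 := by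
          rw [← Submodule.Quotient.mk_smul, Submodule.Quotient.mk_eq_zero, hvz]
          exact Submodule.smul_mem_pointwise_smul z a ⊤ trivial
        have h3 := hreg.2.1.right_eq_zero_of_smul h2
        rw [Submodule.Quotient.mk_eq_zero] at h3
        obtain ⟨z', -, hz'⟩ := h3
        exact ⟨z', hz'.symm⟩
    exact absurd (h.trans hle) (by decide)

/-- With depth at least two, nothing outside `f N` is moved into `f N` by the maximal ideal. -/
theorem mem_range_of_depth_two (h : 2 ≤ LocCoh.depth A N) {f : A} (hf : IsSMulRegular N f) {w : N}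
    (hw : ∀ r ∈ IsLocalRing.maximalIdeal A, ∃ v : N, r • w = f • v) : ∃ v : N, w = f • v := by
  obtain hs | ⟨a, b, ha, hb, hra, hpair⟩ := exists_regular_pair h
  · exact ⟨0, Subsingleton.elim _ _⟩
  obtain ⟨va, hva⟩ := hw a ha
  obtain ⟨vb, hvb⟩ := hw b hb
  have h1 : b • va = a • vb := hf (by
    show f • (b • va) = f • (a • vb)
    rw [smul_comm, ← hva, smul_comm f a, ← hvb, smul_comm])
  obtain ⟨z, hz⟩ := hpair va vb h1
  exact ⟨z, hra (show a • w = a • (f • z) by rw [hva, hz, smul_comm])⟩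

theorem eq_zero_of_depth_two (h : 2 ≤ LocCoh.depth A N) {w : N}
    (hw : ∀ r ∈ IsLocalRing.maximalIdeal A, r • w = 0) : w = 0 := by
  obtain hs | ⟨a, b, ha, -, hra, -⟩ := exists_regular_pair h
  · exact Subsingleton.elim _ _
  · exact hra.right_eq_zero_of_smul (hw a ha)

omit [Module.Finite A N] in
/-- If the maximal ideal is associated, a nonzero element is killed by it. -/
theorem exists_killed [IsNoetherianRing A] (h : IsAssociatedPrime (IsLocalRing.maximalIdeal A) N) :
    ∃ w : N, w ≠ 0 ∧ ∀ r ∈ IsLocalRing.maximalIdeal A, r • w = 0 := by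
  obtain ⟨hP, x, hx⟩ := isAssociatedPrime_iff.mp h
  refine ⟨x, fun h0 => ?_, fun r hr => ?_⟩
  · refine hP.ne_top (hx.trans (Ideal.eq_top_iff_one _ |>.mpr ?_))
    rw [Submodule.mem_colon_singleton, one_smul, h0]
    exact Submodule.zero_mem _
  · rw [hx, Submodule.mem_colon_singleton] at hr
    exact (Submodule.mem_bot A).mp hr

end Algebra

end Groth.Agent.NegTwist
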