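import Groth.Agent.NegTwist.Maps
import Groth.Agent.NegTwist.Stalk
import Groth.Agent.Devissage.Support
import Groth.Agent.QC.Coherent
import Groth.Agent.CohFinite.Linear
import Groth.Agent.W7Hull.HomAdj

/-!
Cokernels of twisting maps with regular coefficient, and injectivity on cohomology.
-/

set_option autoImplicit false
set_option backward.isDefEq.respectTransparency false

universe u

open CategoryTheory CategoryTheory.Limits AlgebraicGeometry TopologicalSpace Opposite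
open Groth.Agent.QC (res resO res_res res_self res_smul resO_resO app_res)
open Groth.Agent.WeakAssLib

noncomputable section

namespace Groth.Agent.NegTwist

variable {X : Scheme.{u}} [IsLocallyNoetherian X] {F P : X.Modules}

theorem isCoh_lev (hF : Coh.IsCoh F) (hP : PicF.IsInvertible P) (j : ℕ) : Coh.IsCoh (Lev F P j) := by
  haveI : F.IsQuasicoherent := hF.1
  exact ⟨TMul.isQCoh_tensor (TMul.isInvertible_tensorPow hP j), TMul.isFT_tensor (TMul.isInvertible_tensorPow hP j) hF.2⟩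

theorem finite_stalk_of_isCoh {N : X.Modules} (hN : Coh.IsCoh N) (x : X) :
    Module.Finite (X.presheaf.stalk x) (N.presheaf.stalk x) :=
  SupportLib.finite_stalk (hq := hN.1) N hN.2 x

/-- Coefficients compatible with restriction. -/
def CoefNat (P : X.Modules) (c : ∀ D : X.Opens, Γ(P, D) → Γ(X, D)) : Prop :=
  ∀ (V D : X.Opens) (h : V ≤ D) (g : Γ(P, D)), c V (res P h g) = resO X h (c D g)

omit [IsLocallyNoetherian X] in
/-- The germ of `Φ` at a point with a generator `g`. -/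
theorem stalk_form (hP : PicF.IsInvertible P) {d : ℕ} (Φ : Lev F P d ⟶ Lev F P 0)
    {c : ∀ D : X.Opens, Γ(P, D) → Γ(X, D)} (hΦ : HasCoef Φ c) (hn : CoefNat P c) {x : X} {U : X.Opens}
    (hxU : x ∈ U) {g : Γ(P, U)} (hg : TMul.IsGen g) (z : (Lev F P 0).presheaf.stalk x) :
    ∃ t : (Lev F P d).presheaf.stalk x, stalkHom Φ x t = X.presheaf.germ U x hxU (c U g) • z ∧
      (t = 0 → z = 0) := by
  obtain ⟨Ψ₀, hΨ₀⟩ := exists_stalkEquiv (F := F) hxU (TMul.isGen_pw hg 0)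
  obtain ⟨Ψd, hΨd⟩ := exists_stalkEquiv (F := F) hxU (TMul.isGen_pw hg d)
  obtain ⟨z', rfl⟩ := Ψ₀.surjective z
  obtain ⟨W, hxW, s, hs⟩ := F.presheaf.exists_germ_eq (x := x) z'
  have hxWU : x ∈ W ⊓ U := ⟨hxW, hxU⟩
  refine ⟨Ψd z', ?_, fun h0 => by rw [(Ψd.map_eq_zero_iff).mp h0, map_zero]⟩
  rw [← hs, ← mgerm_res F (inf_le_left : W ⊓ U ≤ W) hxWU s, hΨd _ inf_le_right, hΨ₀ _ inf_le_right,
    stalkHom_germ, TMul.res_pw, hΦ _ _ (hg.res _), mgerm_smul, hn, ← TMul.res_pw]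
  refine congrArg (· • _) ?_
  exact TopCat.Presheaf.germ_res_apply X.presheaf (homOfLE (inf_le_right : W ⊓ U ≤ U)) x hxWU _

omit [IsLocallyNoetherian X] in
/-- Conversely every germ in the image is a multiple. -/
theorem stalk_form' (hP : PicF.IsInvertible P) {d : ℕ} (Φ : Lev F P d ⟶ Lev F P 0)
    {c : ∀ D : X.Opens, Γ(P, D) → Γ(X, D)} (hΦ : HasCoef Φ c) (hn : CoefNat P c) {x : X} {U : X.Opens}
    (hxU : x ∈ U) {g : Γ(P, U)} (hg : TMul.IsGen g) (t : (Lev F P d).presheaf.stalk x) :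
    ∃ z : (Lev F P 0).presheaf.stalk x, stalkHom Φ x t = X.presheaf.germ U x hxU (c U g) • z := by
  obtain ⟨Ψ₀, hΨ₀⟩ := exists_stalkEquiv (F := F) hxU (TMul.isGen_pw hg 0)
  obtain ⟨Ψd, hΨd⟩ := exists_stalkEquiv (F := F) hxU (TMul.isGen_pw hg d)
  obtain ⟨z', rfl⟩ := Ψd.surjective t
  obtain ⟨W, hxW, s, hs⟩ := F.presheaf.exists_germ_eq (x := x) z'
  have hxWU : x ∈ W ⊓ U := ⟨hxW, hxU⟩
  refine ⟨Ψ₀ z', ?_⟩
  rw [← hs, ← mgerm_res F (inf_le_left : W ⊓ U ≤ W) hxWU s, hΨd _ inf_le_right, hΨ₀ _ inf_le_right,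
    stalkHom_germ, TMul.res_pw, hΦ _ _ (hg.res _), mgerm_smul, hn, ← TMul.res_pw]
  refine congrArg (· • _) ?_
  exact TopCat.Presheaf.germ_res_apply X.presheaf (homOfLE (inf_le_right : W ⊓ U ≤ U)) x hxWU _

/-- If the twisting map has regular coefficient and the depth at a point is two, the point is not
associated to the cokernel. -/
theorem not_isAssPoint_coker (hP : PicF.IsInvertible P) (hF : Coh.IsCoh F) {d : ℕ}
    (Φ : Lev F P d ⟶ Lev F P 0) {G : X.Modules} (π : Lev F P 0 ⟶ G) (w : Φ ≫ π = 0)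
    (hS : (ShortComplex.mk Φ π w).ShortExact)
    {c : ∀ D : X.Opens, Γ(P, D) → Γ(X, D)} (hΦ : HasCoef Φ c) (hn : CoefNat P c)
    {x : X} (hdepth : 2 ≤ LocCoh.depth (X.presheaf.stalk x) (F.presheaf.stalk x)) :
    ¬ Curv2.IsAssPoint G x := by
  intro hass
  haveI := finite_stalk_of_isCoh (isCoh_lev hF hP 0) x
  obtain ⟨γ, hγ0, hγ⟩ := exists_killed hass
  have hx := hS.map_of_exact (DerSch.stalkFunctor X x)
  have hex := (ShortComplex.ShortExact.moduleCat_exact_iff_function_exact _).1 hx.exact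
  have hinj : Function.Injective (stalkHom Φ x) := (ModuleCat.mono_iff_injective _).1 hx.mono_f
  obtain ⟨v, hv⟩ := (ModuleCat.epi_iff_surjective _).1 hx.epi_g γ
  obtain ⟨U, g, hxU, hg⟩ := TMul.exists_isGen hP x
  have hd : 2 ≤ LocCoh.depth (X.presheaf.stalk x) ((Lev F P 0).presheaf.stalk x) :=
    (depth_tensor (TMul.isInvertible_tensorPow hP 0) x).symm ▸ hdepth
  have hreg : IsSMulRegular ((Lev F P 0).presheaf.stalk x) (X.presheaf.germ U x hxU (c U g)) := by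
    rw [isSMulRegular_iff_right_eq_zero_of_smul]
    intro z hz
    obtain ⟨t, ht, ht0⟩ := stalk_form hP Φ hΦ hn hxU hg z
    exact ht0 (hinj (by rw [ht, hz, map_zero]))
  obtain ⟨z, hz⟩ := mem_range_of_depth_two hd hreg (w := v) fun r hr => by
    obtain ⟨t, ht⟩ := (hex (r • v)).1 ((map_smul _ r v).trans ((congrArg (r • ·) hv).trans (hγ r hr)))
    obtain ⟨z, hz⟩ := stalk_form' hP Φ hΦ hn hxU hg t
    exact ⟨z, ht.symm.trans hz⟩
  obtain ⟨t, ht, -⟩ := stalk_form hP Φ hΦ hn hxU hg z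
  refine hγ0 ?_
  rw [← hv]
  exact (hex v).2 ⟨t, ht.trans hz.symm⟩

omit [IsLocallyNoetherian X] in
/-- Tensoring a cokernel sequence. -/
theorem exists_tensor_exact (Q : X.Modules) {A B : X.Modules} (Φ : A ⟶ B) :
    ∃ (m : CohB1.tensorMod Q A ⟶ CohB1.tensorMod Q B)
      (p : CohB1.tensorMod Q B ⟶ CohB1.tensorMod Q (cokernel Φ)) (w : m ≫ p = 0),
      (ShortComplex.mk m p w).Exact ∧ Epi p ∧
      ∀ (D : X.Opens) (g : Γ(Q, D)) (a : Γ(A, D)), m.app D (TMul.tm g a) = TMul.tm g (Φ.app D a) := by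
  haveI : ((DCoh.tensorBi (X := X)).obj Q).IsLeftAdjoint := (W7Hull.homShAdj _).isLeftAdjoint
  haveI : ((DCoh.tensorBi (X := X)).obj Q).PreservesZeroMorphisms :=
    Functor.preservesZeroMorphisms_of_isLeftAdjoint _
  let S₀ : ShortComplex X.Modules := ShortComplex.mk Φ (cokernel.π Φ) (cokernel.condition Φ)
  have hS₀ : S₀.Exact := S₀.exact_of_g_is_cokernel (cokernelIsCokernel Φ)
  have hT := hS₀.map_of_epi_of_preservesCokernel ((DCoh.tensorBi (X := X)).obj Q) inferInstance inferInstance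
  exact ⟨_, _, _, hT, inferInstanceAs (Epi (((DCoh.tensorBi (X := X)).obj Q).map (cokernel.π Φ))), fun D g a => W7Hull.map_tm Q Φ g a⟩

/-- The short exact sequence at level `j`. -/
theorem exists_level_sequence (hP : PicF.IsInvertible P) (hF : Coh.IsQCoh F) {d : ℕ}
    (Φ : Lev F P d ⟶ Lev F P 0) {c : ∀ D : X.Opens, Γ(P, D) → Γ(X, D)} (hΦ : HasCoef Φ c)
    (hc : RegCoef F P c) (j : ℕ) (Φj : Lev F P (j + d) ⟶ Lev F P j) (hΦj : HasCoef Φj c) :
    ∃ (g : Lev F P j ⟶ CohB1.tensorMod (CohB1.tensorPow P j) (cokernel Φ)) (w : Φj ≫ g = 0),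
      (ShortComplex.mk Φj g w).ShortExact := by
  obtain ⟨α, hα⟩ := exists_shift F P j d
  obtain ⟨β, hβ⟩ := exists_shift F P j 0
  haveI := isIso_shift hP j d hα
  haveI hβi : IsIso β := isIso_shift hP j 0 hβ
  obtain ⟨m, p, w₀, hT, hp, hm⟩ := exists_tensor_exact (CohB1.tensorPow P j) Φ
  have hcomm : α ≫ m = Φj ≫ β := hom_ext_pw hP fun D g hg n => by
    show m.app D (α.app D (TMul.tm n (TMul.pw g (j + d)))) =
      β.app D (Φj.app D (TMul.tm n (TMul.pw g (j + d))))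
    rw [hα, hΦj D g hg n, Scheme.Modules.Hom.app_smul, hm, hΦ D g hg n, TMul.tm_smul]
    exact congrArg (c D g • ·) (hβ D g n).symm
  have w : Φj ≫ β ≫ p = 0 := by
    rw [← Category.assoc, ← hcomm, Category.assoc, w₀, comp_zero]
  refine ⟨β ≫ p, w, { exact := ?_, mono_f := hΦj.mono hP hF hc, epi_g := epi_comp β p }⟩
  refine (ShortComplex.exact_iff_of_iso (ShortComplex.isoMk (asIso α) (asIso β) (Iso.refl _) hcomm ?_ :
    ShortComplex.mk Φj _ w ≅ ShortComplex.mk m p w₀)).mpr hT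
  exact (Category.comp_id _).symm

/-- **Injectivity on `H¹` for large levels.** -/
theorem exists_hh1_injective (k : Type u) [Field k] [X.Over (Spec (CommRingCat.of k))]
    (hP : PicF.IsInvertible P) (hF : Coh.IsCoh F)
    (hdepth : ∀ x : X, IsClosed ({x} : Set X) → 2 ≤ LocCoh.depth (X.presheaf.stalk x) (F.presheaf.stalk x))
    (hvan : ∀ G : X.Modules, Coh.IsCoh G → (∀ x : X, IsClosed ({x} : Set X) → ¬ Curv2.IsAssPoint G x) →
      ∃ j₀, ∀ j, j₀ ≤ j → Subsingleton (Coh.HH X (Lev G P j) 0))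
    {d : ℕ} (Φ : Lev F P d ⟶ Lev F P 0) {c : ∀ D : X.Opens, Γ(P, D) → Γ(X, D)} (hΦ : HasCoef Φ c)
    (hn : CoefNat P c) (hc : RegCoef F P c) :
    ∃ j₀, ∀ j, j₀ ≤ j → ∀ (Φj : Lev F P (j + d) ⟶ Lev F P j), HasCoef Φj c →
      Function.Injective (CohFinite.hhMap k Φj 1) := by
  haveI := hΦ.mono hP hF.1 hc
  have hS₀ : (ShortComplex.mk Φ (cokernel.π Φ) (cokernel.condition Φ)).ShortExact :=
    { exact := ShortComplex.exact_of_g_is_cokernel _ (cokernelIsCokernel Φ)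
      mono_f := hΦ.mono hP hF.1 hc
      epi_g := inferInstanceAs (Epi (cokernel.π Φ)) }
  have hG : Coh.IsCoh (cokernel Φ) := QC.isCoh_cokernel (isCoh_lev hF hP d).1 (isCoh_lev hF hP 0) Φ
  obtain ⟨j₀, hj₀⟩ := hvan (cokernel Φ) hG fun x hx =>
    not_isAssPoint_coker hP hF Φ (cokernel.π Φ) _ hS₀ hΦ hn (hdepth x hx)
  refine ⟨j₀, fun j hj Φj hΦj => ?_⟩
  obtain ⟨g, w, hS⟩ := exists_level_sequence hP hF.1 Φ hΦ hc j Φj hΦj
  rw [injective_iff_map_eq_zero]
  intro a ha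
  obtain ⟨y, hy⟩ := (CohFinite.map_f_eq_zero_iff (CohFinite.shortExact_toAb hS) 0 a).1 ha
  haveI := hj₀ j hj
  haveI : Subsingleton (Coh.HH X (CohB1.tensorMod (CohB1.tensorPow P j) (cokernel Φ)) 0) :=
    (CohFinite.hhEquiv k (TMul.commIso (CohB1.tensorPow P j) (cokernel Φ)) 0).toEquiv.subsingleton
  rw [← hy, Subsingleton.elim (α := Coh.HH X (CohB1.tensorMod (CohB1.tensorPow P j) (cokernel Φ)) 0) y 0]
  exact map_zero _

end Groth.Agent.NegTwist
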