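import Groth.Agent.NegTwist.Basic
import Groth.Agent.MeroLib.Special
import Groth.Agent.ZeroSch.Basic
import Groth.Agent.S1576
import Groth.Agent.S8914
import Groth.Agent.W7Hull.InvDual

/-!
Regular sections generating at a finite set, and their effective Cartier zero schemes.
-/

set_option autoImplicit false
set_option backward.isDefEq.respectTransparency false

universe u

open CategoryTheory CategoryTheory.Limits AlgebraicGeometry TopologicalSpace Opposite
open Groth.Agent.QC (res resO res_res res_self res_smul resO_resO app_res)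
open Groth.Agent.WeakAssLib

noncomputable section

namespace Groth.Agent.NegTwist

variable {X : Scheme.{u}}

theorem exists_section_gen_finite [CompactSpace X] [QuasiSeparatedSpace X] {L N : X.Modules}
    (hL : CohB1.IsAmple L) (hN : PicF.IsInvertible N) {Z : Set X} (hZ : Z.Finite) :
    ∃ (m : ℕ) (σ : Coh.structureModule X ⟶ CohB1.tensorPow L (m + 1)) (k₀ : ℕ),
      Z ⊆ CohB1.genLocus _ σ ∧ ∀ k, k₀ ≤ k →
        ∃ t : Coh.structureModule X ⟶ CohB1.tensorMod N (CohB1.tensorPow (CohB1.tensorPow L (m + 1)) k),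
          Z ⊆ CohB1.genLocus _ t := by
  obtain ⟨n, s₀, hZs, -, hs₀⟩ := TMul.exists_finite_le hL hZ (U := ⊤) (fun x _ => trivial)
  obtain ⟨V, e, hZV, he⟩ := MeroLib.exists_gen_near_finite hN hs₀ Z hZs hZ
  obtain ⟨m, σ, hZσ, hσV, -⟩ := TMul.exists_finite_le hL hZ (U := V) hZV
  haveI : N.IsQuasicoherent := TMul.isQCoh_of_isInvertible hN
  have hσV' : CohB1.genLocus _ σ ≤ V := hσV
  obtain ⟨k₀, hk₀⟩ := TMul.exists_twist_extends_ge (F := N) (TMul.isInvertible_tensorPow hL.1 (m + 1)) σ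
    (res N hσV' e)
  refine ⟨m, σ, k₀, hZσ, fun k hk => ?_⟩
  obtain ⟨t', ht'⟩ := hk₀ k hk
  refine ⟨TMul.homOf t', fun z hz => ?_⟩
  refine (TMul.mem_genLocus_iff _).mpr ⟨CohB1.genLocus _ σ, hZσ hz, ?_⟩
  rw [TMul.val_homOf, ht', TMul.twist_eq_tm σ (one_smul _ _).symm, one_pow, one_smul]
  exact TMul.isGen_tm (he.res hσV') (TMul.isGen_pw (TMul.isGen_genLocus σ) k)

/-- A section generating at all associated points is regular. -/
theorem app_injective_of_ass [IsLocallyNoetherian X] {N : X.Modules} (hN : PicF.IsInvertible N)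
    (t : Coh.structureModule X ⟶ N)
    (ht : ∀ y : X, Curv2.IsAssPoint (Coh.structureModule X) y → y ∈ CohB1.genLocus N t) (W : X.Opens) :
    Function.Injective (t.app W) := by
  rw [injective_iff_map_eq_zero]
  intro c hc
  refine WeakAssLib.eq_zero_of_forall (QC.isQCoh_unit X) c fun y hy hwa => ?_
  obtain ⟨D, hyD, hD⟩ := (TMul.mem_genLocus_iff t).mp (ht y ((isAssPoint_iff _ y).2 hwa))
  have hyWD : y ∈ W ⊓ D := ⟨hy, hyD⟩
  rw [← mgerm_res _ (inf_le_left : W ⊓ D ≤ W) hyWD c]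
  suffices h : res (Coh.structureModule X) (inf_le_left : W ⊓ D ≤ W) c = 0 by rw [h, map_zero]
  refine (hD (W ⊓ D) inf_le_right).1 ?_
  show (show Γ(X, W ⊓ D) from res (Coh.structureModule X) inf_le_left c) • res N inf_le_right (TMul.val t D) =
    (0 : Γ(X, W ⊓ D)) • res N inf_le_right (TMul.val t D)
  rw [zero_smul, TMul.res_val, ← TMul.app_eq_smul]
  exact (app_res t (inf_le_left : W ⊓ D ≤ W) c).symm.trans (by rw [hc, map_zero])

theorem mono_of_app_injective {M N : X.Modules} (φ : M ⟶ N) (h : ∀ W : X.Opens, Function.Injective (φ.app W)) :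
    Mono φ := by
  refine ⟨fun {Z} a b hab => Scheme.Modules.hom_ext _ _ fun W => ?_⟩
  ext z
  exact h W (congrArg (fun ψ : Z ⟶ N => ψ.app W z) hab)

/-- The zero scheme of a regular section: effective Cartier, support off the generating locus, ideal
module inverse to the invertible module. -/
theorem exists_cartier_of_section_support [IsLocallyNoetherian X] {N : X.Modules} (hN : PicF.IsInvertible N)
    (t : Coh.structureModule X ⟶ N)
    (ht : ∀ y : X, Curv2.IsAssPoint (Coh.structureModule X) y → y ∈ CohB1.genLocus N t) :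
    ∃ D : X.IdealSheafData, BlowUp.IsEffCartierIdeal D ∧
      (D.support : Set X) = (CohB1.genLocus N t : Set X)ᶜ ∧
      Nonempty (CohB1.tensorMod (ClSub.idealMod D) N ≅ Coh.structureModule X) := by
  obtain ⟨P, hP, ⟨e₀⟩⟩ := W7Hull.exists_tensor_inverse hN
  let e : CohB1.tensorMod P N ≅ Coh.structureModule X := TMul.commIso P N ≪≫ e₀
  obtain ⟨m, hm⟩ := exists_map P t
  let τ : P ⟶ Coh.structureModule X := (SecTwist.unitorR P).inv ≫ m ≫ e.hom
  let I := PicF2.zeroScheme N t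
  have hinj := app_injective_of_ass hN t ht
  have local' : ∀ x : X, ∃ (D : X.Opens) (_ : IsAffineOpen D) (q : Γ(N, D)) (g : Γ(P, D)) (c : Γ(X, D)),
      x ∈ D ∧ TMul.IsGen q ∧ TMul.IsGen g ∧ TMul.val t D = c • q := fun x => by
    obtain ⟨U₁, q, hx₁, hq⟩ := TMul.exists_isGen hN x
    obtain ⟨U₂, g, hx₂, hg⟩ := TMul.exists_isGen hP x
    obtain ⟨D, hD, hxD, hDU⟩ := exists_isAffineOpen_mem_and_subset (x := x) (U := U₁ ⊓ U₂) ⟨hx₁, hx₂⟩
    replace hDU : D ≤ U₁ ⊓ U₂ := hDU
    have hqD := hq.res (hDU.trans inf_le_left)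
    obtain ⟨c, hc⟩ := (hqD D le_rfl).2 (TMul.val t D)
    simp only [res_self] at hc
    exact ⟨D, hD, _, _, c, hxD, hqD, hg.res (hDU.trans inf_le_right), hc.symm⟩
  have hreg : ∀ (D : X.Opens) (q : Γ(N, D)) (c : Γ(X, D)), TMul.val t D = c • q →
      c ∈ nonZeroDivisors Γ(X, D) := fun D q c hc => by
    refine mem_nonZeroDivisors_iff_right.2 fun a ha => hinj D ?_
    rw [map_zero, TMul.app_eq_smul, hc, smul_smul, ha, zero_smul]
  have hE : BlowUp.IsEffCartierIdeal I := fun x => by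
    obtain ⟨D, hD, q, g, c, hxD, hq, hg, hc⟩ := local' x
    exact ⟨⟨D, hD⟩, hxD, c, hreg D q c hc, ZeroSch.ideal_zeroScheme_eq_span t hN ⟨D, hD⟩ hq hc⟩
  refine ⟨I, hE, Set.ext fun x => ?_, ?_⟩
  · obtain ⟨D, hD, q, g, c, hxD, hq, hg, hc⟩ := local' x
    rw [SetLike.mem_coe, Scheme.IdealSheafData.mem_support_iff_of_mem (U := ⟨D, hD⟩) hxD,
      ZeroSch.ideal_zeroScheme_eq_span t hN ⟨D, hD⟩ hq hc, Scheme.zeroLocus_span, Scheme.mem_zeroLocus_iff,
      Set.mem_compl_iff, SetLike.mem_coe, TMul.mem_genLocus_iff_isUnit t hq hc hxD, ← X.mem_basicOpen c x hxD]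
    exact ⟨fun h => h c rfl, fun h f hf => hf.symm ▸ h⟩
  have hgen : ∀ (D : X.Opens) (hD : IsAffineOpen D) (q : Γ(N, D)) (g : Γ(P, D)) (c : Γ(X, D)),
      TMul.IsGen q → TMul.IsGen g → TMul.val t D = c • q →
      ∃ u : Γ(X, D), IsUnit u ∧ (show Γ(X, D) from τ.app D g) = c * u ∧ c ∈ nonZeroDivisors Γ(X, D) ∧
        I.ideal ⟨D, hD⟩ = Ideal.span {c} := fun D hD q g c hq hg hc =>
    ⟨_, isUnit_app_gen e (TMul.isGen_tm hg hq), tau_app_gen hm g hc, hreg D q c hc,
      ZeroSch.ideal_zeroScheme_eq_span t hN ⟨D, hD⟩ hq hc⟩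
  have hτ0 : τ ≫ ClSub.toSubscheme I = 0 := by
    refine Scheme.Modules.hom_ext _ _ fun W => ?_
    ext s
    refine QC.section_eq_of_locally fun x hx => ?_
    obtain ⟨D, hD, q, g, c, hxD, hq, hg, hc⟩ := local' x
    obtain ⟨f, hf, hxf⟩ := hD.exists_basicOpen_le ⟨x, hx⟩ hxD
    refine ⟨X.basicOpen f, hf, hxf, ?_⟩
    obtain ⟨u, -, hu, -, hI⟩ := hgen D hD q g c hq hg hc
    obtain ⟨d, hd⟩ := (hg (X.basicOpen f) (X.basicOpen_le f)).2 (res P hf s)
    rw [app_res, app_res]
    show (ClSub.toSubscheme I).app (X.basicOpen f) (τ.app (X.basicOpen f) (res P hf s)) = _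
    refine Eq.trans (b := 0) ?_ rfl
    refine (QC.mem_range_kernel_app (ClSub.toSubscheme I) _ _).mp
      ((QC.mem_range_idealModι_affine I (X.affineBasicOpen (U := ⟨D, hD⟩) f) _).mpr ?_)
    rw [← hd, Scheme.Modules.Hom.app_smul]
    refine Ideal.mul_mem_left _ _ ?_
    rw [← app_res τ (X.basicOpen_le f) g, ← I.map_ideal_basicOpen ⟨D, hD⟩ f, hI]
    exact Ideal.mem_map_of_mem _ (Ideal.mem_span_singleton'.mpr ⟨u, (mul_comm u c).trans hu.symm⟩)
  let φ : P ⟶ ClSub.idealMod I := kernel.lift (ClSub.toSubscheme I) τ hτ0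
  have hJ := (Groth.Agent.S8914.result I).mpr hE
  have hφ : IsIso φ := by
    refine RelTilde.isIso_of_bijective_near _ fun x => ?_
    obtain ⟨D₀, hD₀, q₀, g₀, c₀, hxD₀, hq₀, hg₀, hc₀⟩ := local' x
    obtain ⟨U, j₀, hxU, hj₀⟩ := TMul.exists_isGen hJ x
    obtain ⟨D, hD, hxD, hDU⟩ := exists_isAffineOpen_mem_and_subset (x := x) (U := D₀ ⊓ U) ⟨hxD₀, hxU⟩
    replace hDU : D ≤ D₀ ⊓ U := hDU
    have hc : TMul.val t D = resO X (hDU.trans inf_le_left) c₀ • res N (hDU.trans inf_le_left) q₀ := by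
      rw [← TMul.res_val t (hDU.trans inf_le_left), hc₀, res_smul]
    obtain ⟨u, hu, hτg, hnzd, hI⟩ := hgen D hD _ (res P (hDU.trans inf_le_left) g₀) _ (hq₀.res _) (hg₀.res _) hc
    have hj := hj₀.res (hDU.trans inf_le_right : D ≤ U)
    obtain ⟨a, ha⟩ := (hj D le_rfl).2 (φ.app D (res P (hDU.trans inf_le_left) g₀))
    simp only [res_self] at ha
    have hua : IsUnit a := by
      have hmem : (show Γ(X, D) from (ClSub.idealModι I).app D (res _ (hDU.trans inf_le_right) j₀)) ∈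
          I.ideal ⟨D, hD⟩ := (QC.mem_range_idealModι_affine I ⟨D, hD⟩ _).mp ⟨_, rfl⟩
      rw [hI] at hmem
      obtain ⟨b, hb⟩ := Ideal.mem_span_singleton'.mp hmem
      have h1 : (show Γ(X, D) from τ.app D (res P (hDU.trans inf_le_left) g₀)) =
          a * (show Γ(X, D) from (ClSub.idealModι I).app D (res _ (hDU.trans inf_le_right) j₀)) := by
        refine Eq.trans ?_ (Scheme.Modules.Hom.app_smul (ClSub.idealModι I) a _)
        refine Eq.trans ?_ (congrArg ((ClSub.idealModι I).app D) ha.symm)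
        exact congrArg (fun ψ : P ⟶ Coh.structureModule X => ψ.app D (res P (hDU.trans inf_le_left) g₀))
          (kernel.lift_ι (ClSub.toSubscheme I) τ hτ0).symm
      rw [hτg, ← hb] at h1
      have h2 : u = a * b := (mul_cancel_right_mem_nonZeroDivisors hnzd).mp
        (by rw [mul_comm u, h1, mul_assoc])
      exact isUnit_of_mul_isUnit_left (h2 ▸ hu)
    have hgφ : TMul.IsGen (φ.app D (res P (hDU.trans inf_le_left) g₀)) := ha ▸ TMul.isGen_smul hj hua
    refine ⟨D, hxD, fun V hV => ?_⟩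
    refine (Function.Bijective.of_comp_iff (φ.app V) ((hg₀.res (hDU.trans inf_le_left)) V hV)).1 ?_
    have h : (φ.app V) ∘ (fun d : Γ(X, V) => d • res P hV (res P (hDU.trans inf_le_left) g₀)) =
        fun d => d • res _ hV (φ.app D (res P (hDU.trans inf_le_left) g₀)) := funext fun d => by
      rw [Function.comp_apply, Scheme.Modules.Hom.app_smul, app_res φ]
    rw [h]
    exact hgφ V hV
  exact ⟨PicGrp.tensorModIso (asIso φ).symm (Iso.refl N) ≪≫ e⟩

/-- The zero scheme of a regular section: effective Cartier, support off the generating locus, ideal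
module inverse to the invertible module. -/
theorem exists_cartier_of_section [IsLocallyNoetherian X] {N : X.Modules} (hN : PicF.IsInvertible N)
    (t : Coh.structureModule X ⟶ N)
    (ht : ∀ y : X, Curv2.IsAssPoint (Coh.structureModule X) y → y ∈ CohB1.genLocus N t) :
    ∃ D : X.IdealSheafData, BlowUp.IsEffCartierIdeal D ∧
      Disjoint (D.support : Set X) (CohB1.genLocus N t : Set X) ∧
      Nonempty (CohB1.tensorMod (ClSub.idealMod D) N ≅ Coh.structureModule X) := by
  obtain ⟨D, h1, h2, h3⟩ := exists_cartier_of_section_support hN t ht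
  exact ⟨D, h1, h2 ▸ disjoint_compl_left, h3⟩

end Groth.Agent.NegTwist
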