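import Groth.Agent.NegTwist.Sections
import Groth.Agent.W7Hull.InvDual

/-!
Invertible modules as differences of effective divisors avoiding a finite set.
-/

set_option autoImplicit false
set_option backward.isDefEq.respectTransparency false

universe u

open CategoryTheory CategoryTheory.Limits AlgebraicGeometry TopologicalSpace Opposite
open Groth.Agent.WeakAssLib

noncomputable section

namespace Groth.Agent.NegTwist

theorem finite_ass {X : Scheme.{u}} [IsNoetherian X] :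
    {x : X | Curv2.IsAssPoint (Coh.structureModule X) x}.Finite := by
  refine (Groth.Agent.S1576.result X (Coh.structureModule X)
    ⟨QC.isQCoh_unit X, TMul.isFT_structureModule X⟩ ⊤ isCompact_univ).subset fun x hx => ⟨trivial, hx⟩

theorem eq_difference (X : Scheme.{u}) [IsNoetherian X] (L : X.Modules) (hL : CohB1.IsAmple L)
    (N : X.Modules) (hN : PicF.IsInvertible N) (E : Set X) (hE : E.Finite) :
    ∃ D D' : X.IdealSheafData, BlowUp.IsEffCartierIdeal D ∧ BlowUp.IsEffCartierIdeal D' ∧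
      Disjoint E (D.support : Set X) ∧ Disjoint E (D'.support : Set X) ∧
      Nonempty (CohB1.tensorMod N (ClSub.idealMod D) ≅ ClSub.idealMod D') := by
  obtain ⟨m, σ, k₀, hZσ, hk⟩ := exists_section_gen_finite hL hN (hE.union finite_ass)
  obtain ⟨t, hZt⟩ := hk (k₀ + 1) (Nat.le_succ _)
  have hQ : PicF.IsInvertible (CohB1.tensorPow (CohB1.tensorPow L (m + 1)) (k₀ + 1)) :=
    TMul.isInvertible_tensorPow (TMul.isInvertible_tensorPow hL.1 (m + 1)) (k₀ + 1)
  have hs := TMul.genLocus_powHom (TMul.isInvertible_tensorPow hL.1 (m + 1)) σ k₀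
  obtain ⟨D, hD, hDt, ⟨eD⟩⟩ := exists_cartier_of_section (TMul.isInvertible_tensorMod hN hQ) t
    fun y hy => hZt (Or.inr hy)
  obtain ⟨D', hD', hDs, ⟨eD'⟩⟩ := exists_cartier_of_section hQ (SecTwist.powHom σ (k₀ + 1))
    fun y hy => hs.ge (hZσ (Or.inr hy))
  refine ⟨D, D', hD, hD', Set.disjoint_left.mpr fun x hxE hxD => Set.disjoint_left.mp hDt hxD (hZt (Or.inl hxE)),
    Set.disjoint_left.mpr fun x hxE hxD => Set.disjoint_left.mp hDs hxD (hs.ge (hZσ (Or.inl hxE))), ⟨?_⟩⟩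
  let Q := CohB1.tensorPow (CohB1.tensorPow L (m + 1)) (k₀ + 1)
  let A := CohB1.tensorMod N (ClSub.idealMod D)
  have e₁ : CohB1.tensorMod A Q ≅ Coh.structureModule X :=
    PicGrp.tensorModIso (TMul.commIso N (ClSub.idealMod D)) (Iso.refl Q) ≪≫ TMul.assocIso _ N Q ≪≫ eD
  exact (SecTwist.unitorR A).symm ≪≫ PicGrp.tensorModIso (Iso.refl A) eD'.symm ≪≫
    PicGrp.tensorModIso (Iso.refl A) (TMul.commIso _ _) ≪≫ (TMul.assocIso A Q _).symm ≪≫
    PicGrp.tensorModIso e₁ (Iso.refl _) ≪≫ TMul.leftUnitIso _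

theorem exists_regular_section {X : Scheme.{u}} [IsNoetherian X] [X.IsQuasiAffine] (E : Set X) (hE : E.Finite)
    (L : X.Modules) (hL : PicF.IsInvertible L) :
    ∃ φ : Coh.structureModule X ⟶ L, Mono φ ∧
      ∀ x ∈ E, ∃ W : X.Opens, x ∈ W ∧ IsIso ((Scheme.Modules.restrictFunctor W.ι).map φ) := by
  have hO : PicF.IsInvertible (Coh.structureModule X) :=
    InvGen.isInvertible fun x => ⟨⊤, W7Hull.one ⊤, trivial, W7Hull.isGen_one ⊤⟩
  obtain ⟨m, σ, k₀, -, hk⟩ := exists_section_gen_finite (TMul.isAmple_of_isQuasiAffine hO) hL (hE.union finite_ass)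
  obtain ⟨t, hZt⟩ := hk k₀ le_rfl
  obtain ⟨e₁⟩ := TMul.nonempty_powMulIso (Coh.structureModule X) (m + 1) k₀
  have e₂ : ∀ n, Nonempty (CohB1.tensorPow (Coh.structureModule X) n ≅ Coh.structureModule X) := fun n => by
    induction n with
    | zero => exact ⟨Iso.refl _⟩
    | succ i ih => exact ih.map fun f => PicGrp.tensorModIso f (Iso.refl _) ≪≫ SecTwist.unitorR _
  obtain ⟨e₂⟩ := e₂ ((m + 1) * k₀)
  let φ := t ≫ (PicGrp.tensorModIso (Iso.refl L) (e₁ ≪≫ e₂) ≪≫ SecTwist.unitorR L).hom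
  have hφ : CohB1.genLocus L φ = CohB1.genLocus _ t := TMul.genLocus_comp _ _
  refine ⟨φ, mono_of_app_injective φ (app_injective_of_ass hL φ fun y hy => hφ.ge (hZt (Or.inr hy))), fun x hx => ?_⟩
  obtain ⟨W, hxW, hW⟩ := (TMul.mem_genLocus_iff φ).mp (hφ.ge (hZt (Or.inl hx)))
  exact ⟨W, hxW, (TMul.isIso_restrict_iff φ W).mpr hW⟩

end Groth.Agent.NegTwist
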