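import Groth.Agent.NegTwist.Enriques
import Groth.Agent.NegTwist.Sections
import Groth.Agent.RefStalk.Refl

/-!
Connectedness of the zero scheme of a regular section of an ample module in depth at least two.
-/

set_option autoImplicit false
set_option backward.isDefEq.respectTransparency false

universe u

open CategoryTheory CategoryTheory.Limits AlgebraicGeometry TopologicalSpace Opposite
open Groth.Agent.QC (res resO res_res res_self res_smul resO_resO app_res)
open Groth.Agent.WeakAssLib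

noncomputable section

namespace Groth.Agent.NegTwist

variable {X : Scheme.{u}}

theorem app_injective_of_mono {A B : X.Modules} (φ : A ⟶ B) [Mono φ] (W : X.Opens) :
    Function.Injective (φ.app W) := by
  rw [injective_iff_map_eq_zero]
  intro a ha
  obtain ⟨b, hb⟩ := (QC.mem_range_kernel_app φ W a).mpr ha
  rw [← hb, kernel.ι_of_mono φ]
  rfl

/-- A regular section generates at the associated points. -/
theorem mem_genLocus_of_isAssPoint [IsLocallyNoetherian X] {N : X.Modules} (hN : PicF.IsInvertible N)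
    (s : Coh.structureModule X ⟶ N) [Mono s] {y : X} (hy : Curv2.IsAssPoint (Coh.structureModule X) y) :
    y ∈ CohB1.genLocus N s := by
  obtain ⟨U, e, c, -, hyU, -, he, hc⟩ := TMul.exists_coeff hN s (W := ⊤) (x := y) trivial
  rw [TMul.mem_genLocus_iff_isUnit s he hc hyU]
  by_contra hu
  obtain ⟨w, hw0, hw⟩ := exists_killed hy
  obtain ⟨W, hyW, a, rfl⟩ := (Coh.structureModule X).presheaf.exists_germ_eq (x := y) w
  have hyWU : y ∈ W ⊓ U := ⟨hyW, hyU⟩
  have h1 : mgerm (Coh.structureModule X) hyWU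
      (resO X (inf_le_right : W ⊓ U ≤ U) c • res (Coh.structureModule X) (inf_le_left : W ⊓ U ≤ W) a) =
      mgerm (Coh.structureModule X) hyWU 0 := by
    rw [map_zero, mgerm_smul, mgerm_res]
    refine Eq.trans (congrArg (· • _) ?_) (hw _ (by rwa [IsLocalRing.mem_maximalIdeal, mem_nonunits_iff]))
    exact TopCat.Presheaf.germ_res_apply X.presheaf (homOfLE (inf_le_right : W ⊓ U ≤ U)) y hyWU c
  obtain ⟨W', hyW', i, i', he'⟩ := TopCat.Presheaf.germ_eq (Coh.structureModule X).presheaf y hyWU hyWU _ _ h1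
  have h2 : res (Coh.structureModule X) i.le (resO X (inf_le_right : W ⊓ U ≤ U) c •
      res (Coh.structureModule X) (inf_le_left : W ⊓ U ≤ W) a) = 0 := he'.trans (map_zero _)
  rw [res_smul, res_res, resO_resO] at h2
  have h3 : res (Coh.structureModule X) (i.le.trans inf_le_left) a = 0 := app_injective_of_mono s W' (by
    rw [map_zero, TMul.app_eq_smul, ← TMul.res_val s (i.le.trans inf_le_right), hc, res_smul, smul_smul]
    refine Eq.trans (congrArg (· • _) ?_) (zero_smul Γ(X, W') _)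
    exact (mul_comm _ _).trans h2)
  exact hw0 ((mgerm_res _ _ hyW' a).symm.trans ((congrArg (mgerm _ hyW') h3).trans (map_zero _)))

theorem isCoh_structureModule : Coh.IsCoh (Coh.structureModule X) :=
  ⟨QC.isQCoh_unit X, TMul.isFT_structureModule X⟩

theorem coe_support_zeroScheme {N : X.Modules} (hN : PicF.IsInvertible N) (s : Coh.structureModule X ⟶ N) :
    ((PicF2.zeroScheme N s).support : Set X) = (CohB1.genLocus N s : Set X)ᶜ := by
  ext x
  obtain ⟨U, e, c, hU, hxU, -, he, hc⟩ := TMul.exists_coeff hN s (W := ⊤) (x := x) trivial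
  rw [SetLike.mem_coe, Scheme.IdealSheafData.mem_support_iff_of_mem (U := ⟨U, hU⟩) hxU,
    ZeroSch.ideal_zeroScheme_eq_span s hN ⟨U, hU⟩ he hc, Scheme.zeroLocus_span, Scheme.mem_zeroLocus_iff,
    Set.mem_compl_iff, SetLike.mem_coe, TMul.mem_genLocus_iff_isUnit s he hc hxU, ← X.mem_basicOpen c x hxU]
  exact ⟨fun h => h c rfl, fun h f hf => Set.mem_singleton_iff.mp hf ▸ h⟩

variable (k : Type u) [Field k] [X.Over (Spec (CommRingCat.of k))] [IsProper (X ↘ (Spec (CommRingCat.of k)))]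

include k in
/-- An auxiliary quotient `O ⟶ C` bijective on global sections, zero exactly off the zero set. -/
theorem exists_thickening (L : X.Modules) (hL : CohB1.IsAmple L) (s : Coh.structureModule X ⟶ L) [Mono s]
    (hdepth : ∀ x : X, IsClosed ({x} : Set X) → 2 ≤ LocCoh.depth (X.presheaf.stalk x) (X.presheaf.stalk x)) :
    ∃ (C : X.Modules) (ψ : Coh.structureModule X ⟶ C), Function.Bijective (ψ.app ⊤) ∧
      TMul.val ψ (CohB1.genLocus L s) = 0 ∧
      ∀ (W : X.Opens) (z : X), z ∈ W → z ∉ CohB1.genLocus L s → TMul.val ψ W ≠ 0 := by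
  haveI : IsLocallyNoetherian X := LocallyOfFiniteType.isLocallyNoetherian (X ↘ (Spec (CommRingCat.of k)))
  obtain ⟨M, hMi, ⟨e₀⟩⟩ := W7Hull.exists_tensor_inverse hL.1
  obtain ⟨τ, hτ⟩ := exists_locus_map hL.1 (TMul.commIso M L ≪≫ e₀) s
  have hO : Coh.IsCoh (Coh.structureModule X) := isCoh_structureModule
  have hd : ∀ x : X, IsClosed ({x} : Set X) →
      2 ≤ LocCoh.depth (X.presheaf.stalk x) ((Coh.structureModule X).presheaf.stalk x) := fun x hx => by
    obtain ⟨e, -⟩ := RefStalk.exists_structStalk (X := X) x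
    exact (hdepth x hx).trans_eq (LocH.idealDepth_congr e.symm (IsLocalRing.maximalIdeal _)).symm
  obtain ⟨n₀, hn₀⟩ := subsingleton_h0 k L hL M ⟨e₀⟩ _ hO fun x hx => not_isAssPoint_of_depth hO (hd x hx)
  obtain ⟨m₀, hm₀⟩ := subsingleton_h1 k L hL M ⟨e₀⟩ _ hO hd
  obtain ⟨T, hT⟩ := exists_iterate (F := Coh.structureModule X) τ (n₀ + m₀ + 1) 0
  generalize hn : 0 + (n₀ + m₀ + 1) = n at T hT
  have hn₁ : n = n₀ + m₀ + 1 := by omega
  have hreg : RegCoef (Coh.structureModule X) M (fun D g => (show Γ(X, D) from τ.app D g) ^ (n₀ + m₀ + 1)) :=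
    fun D g hg y hy hass => by
      rw [map_pow]
      exact ((hτ D g hg y hy).1 (mem_genLocus_of_isAssPoint hL.1 s hass)).pow _
  haveI := hT.mono hMi hO.1 hreg
  have hS : (ShortComplex.mk T (cokernel.π T) (cokernel.condition T)).ShortExact :=
    { exact := ShortComplex.exact_of_g_is_cokernel _ (cokernelIsCokernel T)
      mono_f := inferInstance
      epi_g := inferInstanceAs (Epi (cokernel.π T)) }
  haveI h0 : Subsingleton (Coh.HH X (Lev (Coh.structureModule X) M n) 0) := hn₀ n (by omega)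
  haveI h1 : Subsingleton (Coh.HH X (Lev (Coh.structureModule X) M n) 1) := hm₀ n (by omega)
  let η : Coh.structureModule X ⟶ Lev (Coh.structureModule X) M 0 := (SecTwist.unitorR _).inv
  refine ⟨cokernel T, η ≫ cokernel.π T, ⟨?_, ?_⟩, ?_, ?_⟩
  · rw [injective_iff_map_eq_zero]
    intro a ha
    haveI : Subsingleton Γ(Lev (Coh.structureModule X) M n, ⊤) :=
      (W7Cech.gsH0 k (Lev (Coh.structureModule X) M n)).toEquiv.subsingleton
    let i : Lev (Coh.structureModule X) M n ≅ kernel (cokernel.π T) :=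
      IsLimit.conePointUniqueUpToIso hS.fIsKernel (limit.isLimit _)
    obtain ⟨w, hw⟩ := (QC.mem_range_kernel_app (cokernel.π T) ⊤ (η.app ⊤ a)).mpr ha
    have h2 : w = 0 := by
      have h := congrArg (fun φ : kernel (cokernel.π T) ⟶ kernel (cokernel.π T) => φ.app ⊤ w) i.inv_hom_id
      refine h.symm.trans ?_
      show i.hom.app ⊤ (i.inv.app ⊤ w) = 0
      rw [Subsingleton.elim (i.inv.app ⊤ w) 0, map_zero]
    have h3 : η.app ⊤ a = 0 := by rw [← hw, h2, map_zero]
    exact app_injective_of_mono η ⊤ (h3.trans (map_zero _).symm)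
  · intro γ
    obtain ⟨w, hw⟩ := (CohFinite.δH_eq_zero_iff (CohFinite.shortExact_toAb hS) 0
      (W7Cech.gsH0 k (cokernel T) γ)).mp
      (Subsingleton.elim (α := Coh.HH X (Lev (Coh.structureModule X) M n) 1) _ _)
    obtain ⟨v, rfl⟩ := (W7Cech.gsH0 k (Lev (Coh.structureModule X) M 0)).surjective w
    refine ⟨(SecTwist.unitorR (Coh.structureModule X)).hom.app ⊤ v, ?_⟩
    refine Eq.trans ?_ ((W7Cech.gsH0 k (cokernel T)).injective
      ((W7Cech.gsH0_natural k (cokernel.π T) v).trans hw))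
    exact congrArg (fun φ : Lev (Coh.structureModule X) M 0 ⟶ Lev (Coh.structureModule X) M 0 =>
      (cokernel.π T).app ⊤ (φ.app ⊤ v)) (SecTwist.unitorR (Coh.structureModule X)).hom_inv_id
  · refine QC.section_eq_of_locally fun x hx => ?_
    obtain ⟨D, g, hxD, hg⟩ := TMul.exists_isGen hMi x
    refine ⟨CohB1.genLocus L s ⊓ D, inf_le_left, ⟨hx, hxD⟩, ?_⟩
    rw [map_zero, TMul.res_val]
    have hg' := hg.res (inf_le_right : CohB1.genLocus L s ⊓ D ≤ D)
    have hu : IsUnit (show Γ(X, CohB1.genLocus L s ⊓ D) from τ.app _ (res M inf_le_right g)) :=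
      X.toRingedSpace.isUnit_of_isUnit_germ _ _ fun y hy => (hτ _ _ hg' y hy).1 hy.1
    refine (hu.pow (n₀ + m₀ + 1)).smul_eq_zero.1 ?_
    show _ • (cokernel.π T).app _ (η.app _ (1 : Γ(X, CohB1.genLocus L s ⊓ D))) = 0
    rw [show η.app _ (1 : Γ(X, CohB1.genLocus L s ⊓ D)) = _ from
        unitorR_inv_app (Coh.structureModule X) (D := CohB1.genLocus L s ⊓ D) (1 : Γ(X, CohB1.genLocus L s ⊓ D)),
      ← Scheme.Modules.Hom.app_smul]
    refine (congrArg ((cokernel.π T).app _) (hT _ _ hg' (1 : Γ(X, CohB1.genLocus L s ⊓ D))).symm).trans ?_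
    exact congrArg (fun φ : Lev (Coh.structureModule X) M n ⟶ cokernel T =>
      φ.app _ (TMul.tm _ (TMul.pw (res M inf_le_right g) n))) (cokernel.condition T)
  · intro W z hzW hzU h0
    have hx := hS.map_of_exact (DerSch.stalkFunctor X z)
    have hex := (ShortComplex.ShortExact.moduleCat_exact_iff_function_exact _).1 hx.exact
    have h2 : (cokernel.π T).app W (η.app W (1 : Γ(X, W))) = 0 := h0
    obtain ⟨t, ht⟩ := (hex (mgerm _ hzW (η.app W (1 : Γ(X, W))))).1
      ((stalkHom_germ (cokernel.π T) hzW _).trans ((congrArg (mgerm _ hzW) h2).trans (map_zero _)))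
    obtain ⟨D, g, hzD, hg⟩ := TMul.exists_isGen hMi z
    obtain ⟨z', hz'⟩ := stalk_form' hMi T hT (fun V D h g => by
      rw [map_pow]; exact congrArg (· ^ _) (app_res τ h g).symm) hzD hg t
    obtain ⟨e, he⟩ := RefStalk.exists_structStalk (X := X) z
    let ρ := stalkHom (SecTwist.unitorR (Coh.structureModule X)).hom z
    obtain ⟨y, hy⟩ := e.surjective (ρ z')
    have h3 : e 1 = X.presheaf.germ D z hzD ((show Γ(X, D) from τ.app D g) ^ (n₀ + m₀ + 1)) • ρ z' := by
      rw [← stalkHom_smul, ← hz']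
      refine Eq.trans ?_ (congrArg ρ ht.symm)
      show _ = stalkHom _ z (mgerm _ hzW _)
      rw [he, one_smul, stalkHom_germ, ← mgerm_res _ (le_top : W ≤ ⊤) hzW]
      refine congrArg (mgerm _ hzW) (Eq.trans (map_one (resO X (le_top : W ≤ ⊤))) ?_)
      exact (congrArg (fun φ : Coh.structureModule X ⟶ Coh.structureModule X => φ.app W (1 : Γ(X, W)))
        (SecTwist.unitorR (Coh.structureModule X)).inv_hom_id).symm
    rw [← hy, ← map_smul, smul_eq_mul] at h3
    have hu := IsUnit.of_mul_eq_one y (e.injective h3).symm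
    rw [map_pow, isUnit_pow_iff (by omega : n₀ + m₀ + 1 ≠ 0)] at hu
    exact hzU ((hτ D g hg z hzD).2 hu)

include k in
theorem connectedSpace_zeroScheme [ConnectedSpace X] (L : X.Modules) (hL : CohB1.IsAmple L)
    (s : Coh.structureModule X ⟶ L) [Mono s]
    (hdepth : ∀ x : X, IsClosed ({x} : Set X) → 2 ≤ LocCoh.depth (X.presheaf.stalk x) (X.presheaf.stalk x)) :
    ConnectedSpace ↥(PicF2.zeroScheme L s).subscheme := by
  obtain ⟨C, ψ, ⟨hinj, hsurj⟩, hU, hne⟩ := exists_thickening k L hL s hdepth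
  set U := CohB1.genLocus L s
  suffices hc : IsConnected ((U : Set X)ᶜ) by
    rw [connectedSpace_iff_univ]
    have hr : (PicF2.zeroScheme L s).subschemeι '' Set.univ = (U : Set X)ᶜ := by
      rw [Set.image_univ, Scheme.IdealSheafData.range_subschemeι, coe_support_zeroScheme hL.1 s]
    rw [← hr] at hc
    exact ⟨Set.image_nonempty.mp hc.1,
      ((PicF2.zeroScheme L s).subschemeι.isClosedEmbedding.isInducing.isPreconnected_image).mp hc.2⟩
  have hone : (1 : Γ(X, ⊤)) ≠ 0 := fun h => by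
    obtain ⟨x⟩ := (inferInstance : Nonempty X)
    have h1 := congrArg (X.presheaf.germ ⊤ x trivial) h
    rw [map_one, map_zero] at h1
    exact one_ne_zero h1
  refine ⟨?_, ?_⟩
  · rw [Set.nonempty_compl]
    intro h
    have htop : (⊤ : X.Opens) ≤ U := fun x _ => (Set.eq_univ_iff_forall.mp h) x
    have h1 : TMul.val ψ ⊤ = 0 := by rw [← TMul.res_val ψ htop, hU, map_zero]
    exact hone (hinj (h1.trans (map_zero _).symm))
  rw [isPreconnected_iff_subset_of_disjoint_closed]
  intro A B hA hB hAB hdisj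
  by_contra! hcon
  obtain ⟨⟨z₁, hz₁, hz₁A⟩, ⟨z₂, hz₂, hz₂B⟩⟩ := Set.not_subset.mp hcon.1, Set.not_subset.mp hcon.2
  let V₁ : X.Opens := ⟨((U : Set X)ᶜ ∩ A)ᶜ, (U.2.isClosed_compl.inter hA).isOpen_compl⟩
  let V₂ : X.Opens := ⟨((U : Set X)ᶜ ∩ B)ᶜ, (U.2.isClosed_compl.inter hB).isOpen_compl⟩
  have hV : ∀ x : X, x ∈ V₁ ∨ x ∈ V₂ := fun x => by
    by_contra! h
    obtain ⟨hx1, hx2⟩ := And.intro (Set.notMem_compl_iff.mp h.1) (Set.notMem_compl_iff.mp h.2)
    exact Set.eq_empty_iff_forall_notMem.mp hdisj x ⟨hx1.1, hx1.2, hx2.2⟩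
  have hint : V₁ ⊓ V₂ ≤ U := fun x hx => by
    by_contra hxU
    exact (hAB hxU).elim (fun h => hx.1 ⟨hxU, h⟩) (fun h => hx.2 ⟨hxU, h⟩)
  have hzero : ∀ W : X.Opens, W ≤ U → TMul.val ψ W = 0 := fun W hW => by
    rw [← TMul.res_val ψ hW, hU, map_zero]
  obtain ⟨γ, hγ, -⟩ := TopCat.Sheaf.existsUnique_gluing' (QC.abSheaf C)
    (fun b : ULift.{u} Bool => cond b.down V₁ V₂) ⊤ (fun b => homOfLE le_top)
    (fun x _ => Opens.mem_iSup.mpr ((hV x).elim (fun h => ⟨⟨true⟩, h⟩) fun h => ⟨⟨false⟩, h⟩))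
    (fun b => match b with | ⟨true⟩ => TMul.val ψ V₁ | ⟨false⟩ => 0) (fun i j => by
      rcases i with ⟨_ | _⟩ <;> rcases j with ⟨_ | _⟩
      · rfl
      · show res C inf_le_left (0 : Γ(C, V₂)) = res C (inf_le_right : V₂ ⊓ V₁ ≤ V₁) (TMul.val ψ V₁)
        rw [map_zero, TMul.res_val, hzero _ ((inf_comm V₂ V₁).le.trans hint)]
      · show res C (inf_le_left : V₁ ⊓ V₂ ≤ V₁) (TMul.val ψ V₁) = res C inf_le_right (0 : Γ(C, V₂))
        rw [map_zero, TMul.res_val, hzero _ hint]
      · rfl)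
  have hγ1 : res C (le_top : V₁ ≤ ⊤) γ = TMul.val ψ V₁ := hγ ⟨true⟩
  have hγ2 : res C (le_top : V₂ ≤ ⊤) γ = 0 := hγ ⟨false⟩
  obtain ⟨a, ha⟩ := hsurj γ
  have hγa : γ = (show Γ(X, ⊤) from a) • TMul.val ψ ⊤ := ha.symm.trans (TMul.app_eq_smul ψ a)
  have hidem : (show Γ(X, ⊤) from a) * (1 - (show Γ(X, ⊤) from a)) = 0 := by
    refine hinj (Eq.trans ?_ (map_zero _).symm)
    refine (TMul.app_eq_smul ψ _).trans (QC.section_eq_of_locally fun x _ => ?_)
    rcases hV x with hx | hx
    · refine ⟨V₁, le_top, hx, ?_⟩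
      rw [hγa, res_smul, TMul.res_val] at hγ1
      rw [map_zero, res_smul, TMul.res_val, map_mul, mul_smul, map_sub, map_one, sub_smul, one_smul,
        hγ1, sub_self, smul_zero]
    · refine ⟨V₂, le_top, hx, ?_⟩
      rw [hγa, res_smul, TMul.res_val] at hγ2
      rw [map_zero, res_smul, TMul.res_val, mul_comm, map_mul, mul_smul, hγ2, smul_zero]
  generalize (show Γ(X, ⊤) from a) = b at hγa hidem
  have hsplit : b = 0 ∨ b = 1 := by
    have hd : X.basicOpen b ⊓ X.basicOpen (1 - b) = ⊥ := by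
      rw [← X.basicOpen_mul, hidem, X.basicOpen_zero]
    have hcov : ∀ x : X, x ∈ X.basicOpen b ∨ x ∈ X.basicOpen (1 - b) := fun x => by
      rw [X.mem_basicOpen b x (Opens.mem_top x), X.mem_basicOpen (1 - b) x (Opens.mem_top x), map_sub, map_one]
      exact (IsLocalRing.isUnit_or_isUnit_of_add_one (add_sub_cancel _ _))
    have hclopen : IsClopen (X.basicOpen b : Set X) := by
      refine ⟨⟨?_⟩, (X.basicOpen b).2⟩
      have he : ((X.basicOpen b : Set X))ᶜ = X.basicOpen (1 - b) := by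
        ext x
        refine ⟨(hcov x).resolve_left, fun h h' => ?_⟩
        exact (hd.le ⟨h', h⟩ : x ∈ (⊥ : X.Opens)).elim
      rw [he]; exact (X.basicOpen (1 - b)).2
    rcases isClopen_iff.mp hclopen with h | h
    · left
      have hu : IsUnit (1 - b) := X.toRingedSpace.isUnit_of_isUnit_germ _ _ fun x hx =>
        (X.mem_basicOpen (1 - b) x hx).1 ((hcov x).resolve_left fun hb =>
          (Set.eq_empty_iff_forall_notMem.mp h) x hb)
      exact (hu.mul_left_eq_zero).mp hidem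
    · right
      have hu : IsUnit b := X.toRingedSpace.isUnit_of_isUnit_germ _ _ fun x hx =>
        (X.mem_basicOpen b x hx).1 (Set.eq_univ_iff_forall.mp h x)
      exact (sub_eq_zero.mp ((hu.mul_right_eq_zero).mp hidem)).symm
  rcases hsplit with rfl | rfl
  · rw [hγa, zero_smul, map_zero] at hγ1
    exact hne V₁ z₁ (fun h => hz₁A h.2) hz₁ hγ1.symm
  · rw [hγa, one_smul, TMul.res_val] at hγ2
    exact hne V₂ z₂ (fun h => hz₂B h.2) hz₂ hγ2

end Groth.Agent.NegTwist
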