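import Groth.Agent.NegTwist.Coker
import Groth.Agent.S0002

/-!
Vanishing of `H¹` of strongly negative twists, abstract form.
-/

set_option autoImplicit false
set_option backward.isDefEq.respectTransparency false

universe u

open CategoryTheory CategoryTheory.Limits AlgebraicGeometry TopologicalSpace Opposite
open Groth.Agent.QC (res resO res_res res_self res_smul resO_resO app_res)
open Groth.Agent.WeakAssLib

noncomputable section

namespace Groth.Agent.NegTwist

variable {X : Scheme.{u}} (k : Type u) [Field k] [X.Over (Spec (CommRingCat.of k))] {F P : X.Modules}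

theorem hhMap_add {M N : X.Modules} (φ ψ : M ⟶ N) (q : ℕ) (x : Coh.HH X M q) :
    CohFinite.hhMap k (φ + ψ) q x = CohFinite.hhMap k φ q x + CohFinite.hhMap k ψ q x := by
  show Sheaf.H.map (CohFinite.toAbMap (φ + ψ)) q x = _
  rw [CohFinite.toAbMap, Functor.map_add, Sheaf.H.map_add_apply]
  rfl

theorem hhMap_scal {N : X.Modules} (σ : N ⟶ N) (a : k)
    (hσ : ∀ (D : X.Opens) (t : Γ(N, D)), σ.app D t = ZeroSch.cst k D a • t) (q : ℕ) (x : Coh.HH X N q) :
    CohFinite.hhMap k σ q x = a • x := by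
  show Sheaf.H.map (CohFinite.toAbMap σ) q x =
    Sheaf.H.map (Coh.smulAb N (Coh.toGlobal (X ↘ Spec (CommRingCat.of k)) a)) q x
  congr 2
  ext U m
  exact hσ U.unop m

/-- The homogeneous polynomial `∑ aᵢ σⁱ τ^(d-i)` in local generators. -/
def coefPoly (σ τ : P ⟶ Coh.structureModule X) (d : ℕ) (a : ℕ → k) (D : X.Opens) (g : Γ(P, D)) : Γ(X, D) :=
  ∑ i ∈ Finset.range (d + 1), ZeroSch.cst k D (a i) * (show Γ(X, D) from σ.app D g) ^ i *
    (show Γ(X, D) from τ.app D g) ^ (d - i)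

theorem coefPoly_succ (σ τ : P ⟶ Coh.structureModule X) (d : ℕ) (a : ℕ → k) (D : X.Opens) (g : Γ(P, D)) :
    coefPoly k σ τ (d + 1) a D g =
      (show Γ(X, D) from σ.app D g) * coefPoly k σ τ d (fun i => a (i + 1)) D g +
        ZeroSch.cst k D (a 0) * (show Γ(X, D) from τ.app D g) ^ (d + 1) := by
  rw [coefPoly, Finset.sum_range_succ', coefPoly, Finset.mul_sum, pow_zero, mul_one, Nat.sub_zero]
  refine congrArg (· + _) (Finset.sum_congr rfl fun i _ => ?_)
  rw [Nat.succ_sub_succ, pow_succ]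
  ring

theorem coefNat_coefPoly (σ τ : P ⟶ Coh.structureModule X) (d : ℕ) (a : ℕ → k) :
    CoefNat P (coefPoly k σ τ d a) := fun V D h g => by
  rw [coefPoly, coefPoly, map_sum]
  refine Finset.sum_congr rfl fun i _ => ?_
  rw [map_mul, map_mul, map_pow, map_pow, ZeroSch.cst_res]
  have h1 : ∀ ρ : P ⟶ Coh.structureModule X,
      (show Γ(X, V) from ρ.app V (res P h g)) = resO X h (show Γ(X, D) from ρ.app D g) :=
    fun ρ => (app_res ρ h g).symm
  rw [h1, h1]

/-- `H¹` of a level. -/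
abbrev V1 (F P : X.Modules) (j : ℕ) : Type u := Coh.HH X (Lev F P j) 1

/-- The map on `H¹` induced by `τ`. -/
def phi (τ : P ⟶ Coh.structureModule X) (j : ℕ) : V1 F P (j + 1) →ₗ[k] V1 F P j :=
  CohFinite.hhMap k (down F (Iso.refl (CohB1.tensorPow P (j + 1))) τ : Lev F P (j + 1) ⟶ Lev F P j) 1

variable {k}

theorem phi_comm (hP : PicF.IsInvertible P) (σ τ : P ⟶ Coh.structureModule X) (j : ℕ) (x : V1 F P (j + 1 + 1)) :
    phi k τ j (phi k σ (j + 1) x) = phi k σ j (phi k τ (j + 1) x) := by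
  rw [phi, phi, phi, phi, ← CohFinite.hhMap_comp, ← CohFinite.hhMap_comp]
  have h : (down F (Iso.refl (CohB1.tensorPow P (j + 1 + 1))) σ : Lev F P (j + 1 + 1) ⟶ Lev F P (j + 1)) ≫
        (down F (Iso.refl (CohB1.tensorPow P (j + 1))) τ : Lev F P (j + 1) ⟶ Lev F P j) =
      (down F (Iso.refl (CohB1.tensorPow P (j + 1 + 1))) τ : Lev F P (j + 1 + 1) ⟶ Lev F P (j + 1)) ≫
        (down F (Iso.refl (CohB1.tensorPow P (j + 1))) σ : Lev F P (j + 1) ⟶ Lev F P j) :=
    ((hasCoef_down σ (j + 1)).comp (hasCoef_down τ j)).eq hP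
      (((hasCoef_down τ (j + 1)).comp (hasCoef_down σ j)).congr fun D g => mul_comm _ _)
  rw [h]

theorem iterate_comm (hP : PicF.IsInvertible P) (σ τ : P ⟶ Coh.structureModule X) {j : ℕ}
    (A : Module.End k (V1 F P j)) (hA : ∀ x, phi k σ j x = A (phi k τ j x)) :
    ∀ (d : ℕ) (T : Lev F P (j + d) ⟶ Lev F P j) (T' : Lev F P (j + (d + 1)) ⟶ Lev F P j),
      HasCoef T (fun D g => (show Γ(X, D) from τ.app D g) ^ d) →
      HasCoef T' (fun D g => (show Γ(X, D) from τ.app D g) ^ (d + 1)) →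
      ∀ x, CohFinite.hhMap k T 1 (phi k σ (j + d) x) = A (CohFinite.hhMap k T' 1 x) := by
  intro d
  induction d with
  | zero =>
    intro T T' hT hT' x
    rw [hT.eq hP ((hasCoef_id j).congr fun D g => (pow_zero _).symm),
      hT'.eq hP ((hasCoef_down τ j).congr fun D g => (pow_one _).symm)]
    exact (CohFinite.hhMap_id k _ 1 _).trans (hA x)
  | succ d ih =>
    intro T T' hT hT' x
    obtain ⟨T₀, hT₀⟩ := exists_iterate (F := F) τ d j
    obtain ⟨T₁, hT₁⟩ := exists_iterate (F := F) τ (d + 1) j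
    rw [hT.eq hP (((hasCoef_down τ (j + d)).comp hT₀).congr fun D g => (pow_succ' _ _).symm),
      hT'.eq hP (((hasCoef_down τ (j + (d + 1))).comp hT₁).congr fun D g => (pow_succ' _ _).symm),
      CohFinite.hhMap_comp, CohFinite.hhMap_comp]
    refine Eq.trans (congrArg (CohFinite.hhMap k T₀ 1) (phi_comm hP σ τ (j + d) x)) ?_
    exact ih T₀ T₁ hT₀ hT₁ _

theorem exists_poly_maps (hP : PicF.IsInvertible P) (σ τ : P ⟶ Coh.structureModule X) (j : ℕ) :
    ∀ (d : ℕ) (a : ℕ → k), ∃ Ψ : Lev F P (j + d) ⟶ Lev F P j, HasCoef Ψ (coefPoly k σ τ d a) ∧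
      ∀ (A : Module.End k (V1 F P j)), (∀ x, phi k σ j x = A (phi k τ j x)) →
      ∀ (T : Lev F P (j + d) ⟶ Lev F P j), HasCoef T (fun D g => (show Γ(X, D) from τ.app D g) ^ d) →
        ∀ x, CohFinite.hhMap k Ψ 1 x =
          ∑ i ∈ Finset.range (d + 1), a i • (A ^ i) (CohFinite.hhMap k T 1 x) := by
  intro d
  induction d with
  | zero =>
    intro a
    obtain ⟨s, hs⟩ := exists_scal k (Lev F P j) (a 0)
    refine ⟨(𝟙 (Lev F P j)) ≫ s, ((hasCoef_id j).scal k (a 0) hs).congr fun D g => by simp [coefPoly],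
      fun A hA T hT x => ?_⟩
    rw [CohFinite.hhMap_comp, hhMap_scal k s (a 0) hs, Finset.sum_range_one, pow_zero, Module.End.one_apply,
      hT.eq hP ((hasCoef_id j).congr fun D g => (pow_zero _).symm)]
  | succ d ih =>
    intro a
    obtain ⟨Ψ, hΨ, hΨ'⟩ := ih fun i => a (i + 1)
    obtain ⟨T₁, hT₁⟩ := exists_iterate (F := F) τ (d + 1) j
    obtain ⟨T₀, hT₀⟩ := exists_iterate (F := F) τ d j
    obtain ⟨s, hs⟩ := exists_scal k (Lev F P j) (a 0)
    refine ⟨(down F (Iso.refl (CohB1.tensorPow P (j + d + 1))) σ : Lev F P (j + (d + 1)) ⟶ Lev F P (j + d)) ≫ Ψ +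
      T₁ ≫ s, (((hasCoef_down σ (j + d)).comp hΨ).add (hT₁.scal k (a 0) hs)).congr
        fun D g => (coefPoly_succ k σ τ d a D g).symm, fun A hA T hT x => ?_⟩
    rw [hhMap_add, CohFinite.hhMap_comp, CohFinite.hhMap_comp, hhMap_scal k s (a 0) hs, hT₁.eq hP hT,
      Finset.sum_range_succ' (fun i => a i • (A ^ i) (CohFinite.hhMap k T 1 x)), pow_zero, Module.End.one_apply]
    refine congrArg (· + _) ?_
    refine (hΨ' A hA T₀ hT₀ _).trans (Finset.sum_congr rfl fun i _ => ?_)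
    rw [pow_succ, Module.End.mul_apply]
    refine congrArg (fun v => a (i + 1) • (A ^ i) v) ?_
    exact iterate_comm hP σ τ A hA d T₀ T hT₀ hT x

variable [IsProper (X ↘ Spec (CommRingCat.of k))]

variable (k) in
/-- **The abstract vanishing theorem.** -/
theorem subsingleton_h1_levels (hP : PicF.IsInvertible P) (hF : Coh.IsCoh F)
    (hdepth : ∀ x : X, IsClosed ({x} : Set X) → 2 ≤ LocCoh.depth (X.presheaf.stalk x) (F.presheaf.stalk x))
    (hvan : ∀ G : X.Modules, Coh.IsCoh G → (∀ x : X, IsClosed ({x} : Set X) → ¬ Curv2.IsAssPoint G x) →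
      ∃ j₀, ∀ j, j₀ ≤ j → Subsingleton (Coh.HH X (Lev G P j) 0))
    (σ τ : P ⟶ Coh.structureModule X)
    (hpoly : ∀ (d : ℕ) (a : ℕ → k), a d = 1 → RegCoef F P (coefPoly k σ τ d a))
    (hτ : RegCoef F P (fun D g => τ.app D g)) :
    ∃ j₁, ∀ j, j₁ ≤ j → Subsingleton (V1 F P j) := by
  classical
  haveI : IsLocallyNoetherian X := LocallyOfFiniteType.isLocallyNoetherian (X ↘ (Spec (CommRingCat.of k)))
  haveI : ∀ j, Module.Finite k (V1 F P j) := fun j => Groth.Agent.S0002.result k X _ (isCoh_lev hF hP j) 1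
  obtain ⟨n₀, hn₀⟩ := exists_hh1_injective k hP hF hdepth hvan
    (down F (Iso.refl (CohB1.tensorPow P (0 + 1))) τ : Lev F P 1 ⟶ Lev F P 0) (hasCoef_down τ 0)
    (fun V D h g => (app_res τ h g).symm) hτ
  have hinj : ∀ j, n₀ ≤ j → Function.Injective (phi (F := F) k τ j) := fun j hj =>
    hn₀ j hj _ (hasCoef_down τ j)
  obtain ⟨i₀, hi₀⟩ : ∃ i₀, ∀ i, i₀ ≤ i → Module.finrank k (V1 F P (n₀ + i)) = Module.finrank k (V1 F P (n₀ + i₀)) := by
    obtain ⟨i₀, h⟩ := WellFoundedLT.antitone_chain_condition (α := ℕ)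
      (antitone_nat_of_succ_le (f := fun i => Module.finrank k (V1 F P (n₀ + i))) fun i =>
        LinearMap.finrank_le_finrank_of_injective (hinj (n₀ + i) (Nat.le_add_right _ _)))
    exact ⟨i₀, fun i hi => (h i hi).symm⟩
  have hbij : ∀ j, n₀ + i₀ ≤ j → Function.Bijective (phi (F := F) k τ j) := fun j hj => by
    obtain ⟨i, rfl⟩ : ∃ i, j = n₀ + i := ⟨j - n₀, by omega⟩
    exact ⟨hinj _ (Nat.le_add_right _ _), (LinearMap.injective_iff_surjective_of_finrank_eq_finrank
      ((hi₀ (i + 1) (by omega)).trans (hi₀ i (by omega)).symm)).mp (hinj _ (Nat.le_add_right _ _))⟩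
  let A : ∀ j, n₀ + i₀ ≤ j → Module.End k (V1 F P j) := fun j hj =>
    phi k σ j ∘ₗ (LinearEquiv.ofBijective _ (hbij j hj)).symm.toLinearMap
  have hA : ∀ j hj x, phi k σ j x = A j hj (phi k τ j x) := fun j hj x => by
    show _ = phi k σ j ((LinearEquiv.ofBijective _ (hbij j hj)).symm (phi k τ j x))
    rw [show phi k τ j x = LinearEquiv.ofBijective _ (hbij j hj) x from rfl, LinearEquiv.symm_apply_apply]
  let μ := minpoly k (A (n₀ + i₀) le_rfl)
  have hμ : μ.Monic := minpoly.monic (Algebra.IsIntegral.isIntegral _)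
  have haev : ∀ j (hj : n₀ + i₀ ≤ j), Polynomial.aeval (A j hj) μ = 0 := by
    intro j hj
    induction j, hj using Nat.le_induction with
    | base => exact minpoly.aeval k _
    | succ j hj ih =>
      have hint : ∀ (i : ℕ) (v : V1 F P (j + 1)),
          phi k τ j ((A (j + 1) (hj.trans (Nat.le_succ j)) ^ i) v) = (A j hj ^ i) (phi k τ j v) := fun i => by
        induction i with
        | zero => intro v; simp
        | succ i ihi =>
          intro v
          rw [pow_succ', pow_succ', Module.End.mul_apply, Module.End.mul_apply, ← ihi v]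
          obtain ⟨w, hw⟩ := (hbij (j + 1) (hj.trans (Nat.le_succ j))).2
            ((A (j + 1) (hj.trans (Nat.le_succ j)) ^ i) v)
          rw [← hw, ← hA, phi_comm hP, ← hA]
          all_goals omega
      refine LinearMap.ext fun v => (hbij j hj).1 ?_
      rw [LinearMap.zero_apply, map_zero, Polynomial.aeval_eq_sum_range]
      rw [LinearMap.sum_apply, map_sum]
      have := LinearMap.congr_fun ih (phi k τ j v)
      rw [Polynomial.aeval_eq_sum_range, LinearMap.sum_apply, LinearMap.zero_apply] at this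
      refine Eq.trans (Finset.sum_congr rfl fun i _ => ?_) this
      rw [LinearMap.smul_apply, map_smul, hint, LinearMap.smul_apply]
  let d := μ.natDegree
  obtain ⟨Ψ₀, hΨ₀, -⟩ := exists_poly_maps (F := F) hP σ τ 0 d μ.coeff
  have hr := hpoly d μ.coeff hμ.coeff_natDegree
  obtain ⟨n₁, hn₁⟩ := exists_hh1_injective k hP hF hdepth hvan
    ((eqToHom (congrArg (Lev F P) (Nat.zero_add d).symm)) ≫ Ψ₀) (c := coefPoly k σ τ d μ.coeff) (by
      intro D g hg n
      have key : ∀ (m : ℕ) (h : d = m) (Ψ : Lev F P m ⟶ Lev F P 0), HasCoef Ψ (coefPoly k σ τ d μ.coeff) →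
          HasCoef (eqToHom (congrArg (Lev F P) h) ≫ Ψ) (coefPoly k σ τ d μ.coeff) := fun m h Ψ hΨ => by
        subst h; simpa using hΨ
      exact key _ (Nat.zero_add d).symm Ψ₀ hΨ₀ D g hg n)
    (coefNat_coefPoly k σ τ d μ.coeff) hr
  refine ⟨max (n₀ + i₀) n₁ + d, fun j hj => ?_⟩
  obtain ⟨i, rfl⟩ : ∃ i, j = i + d := ⟨j - d, by omega⟩
  obtain ⟨Ψ, hΨ, hΨ'⟩ := exists_poly_maps (F := F) hP σ τ i d μ.coeff
  obtain ⟨T, hT⟩ := exists_iterate (F := F) τ d i
  refine subsingleton_of_forall_eq 0 fun x => hn₁ i (by omega) Ψ hΨ ?_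
  rw [map_zero, hΨ' _ (hA i (by omega)) T hT x]
  have := LinearMap.congr_fun (haev i (by omega)) (CohFinite.hhMap k T 1 x)
  rw [Polynomial.aeval_eq_sum_range, LinearMap.sum_apply, LinearMap.zero_apply] at this
  exact this

end Groth.Agent.NegTwist
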