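import Groth.Agent.WeakAssLib.Stalk
import Groth.Agent.TMul.AmpleBasis
import Groth.Agent.W7Hull.HomAdj
import Groth.Agent.ResDesc.CartierFam
import Groth.Agent.SupportLib.Pull

/-!
Twisting down by a map `τ : P ⟶ O` from an invertible module: injectivity on sections when `τ` generates at
the associated points, and germs of iterated images.
-/

set_option autoImplicit false
set_option backward.isDefEq.respectTransparency false

universe u

open CategoryTheory CategoryTheory.Limits AlgebraicGeometry TopologicalSpace Opposite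
open Groth.Agent.QC (res resO res_res res_self res_smul resO_resO app_res)
open Groth.Agent.WeakAssLib

noncomputable section

namespace Groth.Agent.NegTwist

variable {X : Scheme.{u}}

/-- `τ : P ⟶ O` has cosupport `U`: it is a unit in local generators exactly on `U`. -/
def IsLocusOf {P : X.Modules} (τ : P ⟶ Coh.structureModule X) (U : X.Opens) : Prop :=
  ∀ (D : X.Opens) (g : Γ(P, D)), TMul.IsGen g → ∀ (x : X) (hx : x ∈ D),
    (x ∈ U ↔ IsUnit (X.presheaf.germ D x hx (show Γ(X, D) from τ.app D g)))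

theorem unitorR_inv_app (F : X.Modules) {D : X.Opens} (t : Γ(F, D)) :
    (SecTwist.unitorR F).inv.app D t = TMul.tm t (show Γ(Coh.structureModule X, D) from (1 : Γ(X, D))) := by
  have h := ResDesc.unitorR_tm F t (1 : Γ(X, D))
  rw [one_smul] at h
  refine (congrArg ((SecTwist.unitorR F).inv.app D) h.symm).trans ?_
  exact congrArg (fun φ : CohB1.tensorMod F (Coh.structureModule X) ⟶ _ =>
    φ.app D (TMul.tm t (show Γ(Coh.structureModule X, D) from (1 : Γ(X, D))))) (SecTwist.unitorR F).hom_inv_id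

theorem isUnit_app_gen {P Q : X.Modules} (e : CohB1.tensorMod P Q ≅ Coh.structureModule X) {D : X.Opens}
    {t : Γ(CohB1.tensorMod P Q, D)} (ht : TMul.IsGen t) : IsUnit (show Γ(X, D) from e.hom.app D t) := by
  obtain ⟨d, hd⟩ := (ht D le_rfl).2 (e.inv.app D (1 : Γ(X, D)))
  simp only [res_self] at hd
  refine IsUnit.of_mul_eq_one_right d ?_
  have h1 := congrArg (fun φ : Coh.structureModule X ⟶ Coh.structureModule X => φ.app D (1 : Γ(X, D))) e.inv_hom_id
  refine Eq.trans ?_ h1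
  exact ((Scheme.Modules.Hom.app_smul e.hom d _).symm.trans (congrArg (e.hom.app D) hd))

theorem exists_map (P : X.Modules) {A B : X.Modules} (σ : A ⟶ B) :
    ∃ m : CohB1.tensorMod P A ⟶ CohB1.tensorMod P B, ∀ (D : X.Opens) (g : Γ(P, D)) (a : Γ(A, D)),
      m.app D (TMul.tm g a) = TMul.tm g (σ.app D a) :=
  ⟨((DCoh.tensorBi (X := X)).obj P).map σ, fun _ g a => W7Hull.map_tm P σ g a⟩

theorem tau_app_gen {P Q : X.Modules} {e : CohB1.tensorMod P Q ≅ Coh.structureModule X}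
    {σ : Coh.structureModule X ⟶ Q} {m : CohB1.tensorMod P (Coh.structureModule X) ⟶ CohB1.tensorMod P Q}
    (hm : ∀ (D : X.Opens) (g : Γ(P, D)) (a : Γ(Coh.structureModule X, D)),
      m.app D (TMul.tm g a) = TMul.tm g (σ.app D a)) {D : X.Opens} (g : Γ(P, D))
    {c : Γ(X, D)} {q : Γ(Q, D)} (hc : TMul.val σ D = c • q) :
    (show Γ(X, D) from ((SecTwist.unitorR P).inv ≫ m ≫ e.hom).app D g) =
      c * (show Γ(X, D) from e.hom.app D (TMul.tm g q)) := by
  show e.hom.app D (m.app D ((SecTwist.unitorR P).inv.app D g)) = _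
  rw [unitorR_inv_app, hm]
  refine (congrArg (e.hom.app D) ((congrArg (TMul.tm g) hc).trans (TMul.tm_smul c _ _))).trans ?_
  exact Scheme.Modules.Hom.app_smul e.hom c _

/-- From a section of `Q ≅ P⁻¹` to a map `P ⟶ O`. -/
theorem exists_locus_map {P Q : X.Modules} (hQ : PicF.IsInvertible Q)
    (e : CohB1.tensorMod P Q ≅ Coh.structureModule X) (σ : Coh.structureModule X ⟶ Q) :
    ∃ τ : P ⟶ Coh.structureModule X, IsLocusOf τ (CohB1.genLocus Q σ) := by
  obtain ⟨m, hm⟩ := exists_map P σ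
  refine ⟨(SecTwist.unitorR P).inv ≫ m ≫ e.hom, fun D g hg x hx => ?_⟩
  obtain ⟨W, q, hxW, hq⟩ := TMul.exists_isGen hQ x
  have hqD : TMul.IsGen (res Q (inf_le_right : D ⊓ W ≤ W) q) := hq.res _
  obtain ⟨c, hc⟩ := (hqD _ le_rfl).2 (TMul.val σ (D ⊓ W))
  simp only [res_self] at hc
  have hu := isUnit_app_gen e (TMul.isGen_tm (hg.res (inf_le_left : D ⊓ W ≤ D)) hqD)
  rw [TMul.mem_genLocus_iff_isUnit σ hqD hc.symm (⟨hx, hxW⟩ : x ∈ D ⊓ W),
    ← X.presheaf.germ_res_apply (homOfLE (inf_le_left : D ⊓ W ≤ D)) x ⟨hx, hxW⟩]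
  have h3 : X.presheaf.map (homOfLE (inf_le_left : D ⊓ W ≤ D)).op (show Γ(X, D) from ((SecTwist.unitorR P).inv ≫ m ≫ e.hom).app D g) =
      c * (show Γ(X, D ⊓ W) from e.hom.app (D ⊓ W) (TMul.tm (res P inf_le_left g) (res Q inf_le_right q))) :=
    (app_res ((SecTwist.unitorR P).inv ≫ m ≫ e.hom) (inf_le_left : D ⊓ W ≤ D) g).trans (tau_app_gen hm _ hc.symm)
  rw [h3, map_mul, IsUnit.mul_iff, and_iff_left (hu.map _)]

variable {F R R' P : X.Modules}

/-- A section of `F ⊗ R` with zero germs at the associated points of `F` vanishes. -/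
theorem eq_zero_of_tensor [IsLocallyNoetherian X] (hF : Coh.IsQCoh F) (hR : PicF.IsInvertible R) {W : X.Opens}
    (w : Γ(CohB1.tensorMod F R, W))
    (h : ∀ (y : X) (hy : y ∈ W), Curv2.IsAssPoint F y → mgerm (CohB1.tensorMod F R) hy w = 0) : w = 0 := by
  refine QC.section_eq_of_locally fun x hx => ?_
  obtain ⟨V₀, e, hxV, he⟩ := TMul.exists_isGen hR x
  refine ⟨W ⊓ V₀, inf_le_left, ⟨hx, hxV⟩, ?_⟩
  rw [map_zero]
  obtain ⟨n, hn⟩ := (TMul.tm_bijective he (W ⊓ V₀) inf_le_right).2 (res _ inf_le_left w)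
  dsimp only at hn
  suffices hn0 : n = 0 by rw [← hn, hn0, TMul.zero_tm]
  refine eq_zero_of_forall hF n fun y (hy : y ∈ W ⊓ V₀) hwa => ?_
  obtain ⟨W', hyW', iU, iV, he'⟩ := TopCat.Presheaf.germ_eq (CohB1.tensorMod F R).presheaf y hy.1 hy.1 w 0
    ((h y hy.1 ((isAssPoint_iff F y).2 hwa)).trans (map_zero _).symm)
  rw [← mgerm_res F (inf_le_right : W' ⊓ (W ⊓ V₀) ≤ W ⊓ V₀) (show y ∈ W' ⊓ (W ⊓ V₀) from ⟨hyW', hy⟩) n]
  suffices h0 : res F (inf_le_right : W' ⊓ (W ⊓ V₀) ≤ W ⊓ V₀) n = 0 by rw [h0, map_zero]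
  refine (TMul.tm_bijective he (W' ⊓ (W ⊓ V₀)) (inf_le_right.trans inf_le_right)).1 ?_
  dsimp only
  rw [TMul.zero_tm, ← res_res R inf_le_right inf_le_right, ← TMul.res_tm, hn, res_res,
    ← res_res _ (inf_le_left : W' ⊓ (W ⊓ V₀) ≤ W') iU.le]
  exact (congrArg (res _ inf_le_left) he').trans (by simp)

/-- The twisting down map. -/
def down (F : X.Modules) (ψ : R' ≅ CohB1.tensorMod R P) (τ : P ⟶ Coh.structureModule X) :
    CohB1.tensorMod F R' ⟶ CohB1.tensorMod F R :=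
  ((DCoh.tensorBi (X := X)).obj F).map (ψ.hom ≫ ((DCoh.tensorBi (X := X)).obj R).map τ ≫ (SecTwist.unitorR R).hom)

theorem down_tm (ψ : R' ≅ CohB1.tensorMod R P) (τ : P ⟶ Coh.structureModule X) {D : X.Opens}
    (n : Γ(F, D)) (r : Γ(R, D)) (g : Γ(P, D)) :
    (down F ψ τ).app D (TMul.tm n (ψ.inv.app D (TMul.tm r g))) =
      (show Γ(X, D) from τ.app D g) • TMul.tm n r := by
  refine (W7Hull.map_tm F _ n _).trans (Eq.trans ?_ (TMul.tm_smul _ n r))
  refine congrArg (TMul.tm n) ?_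
  show (SecTwist.unitorR R).hom.app D ((((DCoh.tensorBi (X := X)).obj R).map τ).app D
    (ψ.hom.app D (ψ.inv.app D (TMul.tm r g)))) = _
  rw [show ψ.hom.app D (ψ.inv.app D (TMul.tm r g)) = TMul.tm r g from
    congrArg (fun φ : CohB1.tensorMod R P ⟶ CohB1.tensorMod R P => φ.app D (TMul.tm r g)) ψ.inv_hom_id]
  exact (congrArg ((SecTwist.unitorR R).hom.app D) (W7Hull.map_tm R τ r g)).trans (ResDesc.unitorR_tm R r _)

theorem exists_local_form (hR : PicF.IsInvertible R) (hP : PicF.IsInvertible P)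
    (ψ : R' ≅ CohB1.tensorMod R P) (x : X) :
    ∃ (D : X.Opens) (r : Γ(R, D)) (g : Γ(P, D)), x ∈ D ∧ TMul.IsGen r ∧ TMul.IsGen g ∧
      ∀ (V : X.Opens) (hV : V ≤ D) (t : Γ(CohB1.tensorMod F R', V)), ∃ n : Γ(F, V),
        t = TMul.tm n (ψ.inv.app V (TMul.tm (res R hV r) (res P hV g))) := by
  obtain ⟨U₁, r, hx₁, hr⟩ := TMul.exists_isGen hR x
  obtain ⟨U₂, g, hx₂, hg⟩ := TMul.exists_isGen hP x
  refine ⟨U₁ ⊓ U₂, res R inf_le_left r, res P inf_le_right g, ⟨hx₁, hx₂⟩, hr.res _, hg.res _, fun V hV t => ?_⟩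
  have hgen : TMul.IsGen (ψ.inv.app (U₁ ⊓ U₂) (TMul.tm (res R inf_le_left r) (res P inf_le_right g))) := fun W hW => by
    have hb : Function.Bijective (ψ.inv.app W) := ConcreteCategory.bijective_of_isIso (ψ.inv.app W)
    have e : (fun c : Γ(X, W) => c • res R' hW (ψ.inv.app (U₁ ⊓ U₂) (TMul.tm (res R inf_le_left r) (res P inf_le_right g)))) =
        (ψ.inv.app W) ∘ fun c : Γ(X, W) => c • res _ hW (TMul.tm (res R inf_le_left r) (res P inf_le_right g)) :=
      funext fun c => by rw [Function.comp_apply, app_res, Scheme.Modules.Hom.app_smul]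
    rw [e]
    exact hb.comp (TMul.isGen_tm (hr.res _) (hg.res _) W hW)
  obtain ⟨n, hn⟩ := (TMul.tm_bijective hgen V hV).2 t
  refine ⟨n, hn.symm.trans ?_⟩
  dsimp only
  rw [app_res, TMul.res_tm]

/-- `down` is injective on sections if `τ` generates at the associated points of `F`. -/
theorem down_app_injective [IsLocallyNoetherian X] (hF : Coh.IsQCoh F) (hR : PicF.IsInvertible R)
    (hR' : PicF.IsInvertible R') (hP : PicF.IsInvertible P)
    (ψ : R' ≅ CohB1.tensorMod R P) {τ : P ⟶ Coh.structureModule X} {U : X.Opens} (hτ : IsLocusOf τ U)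
    (hU : ∀ y : X, Curv2.IsAssPoint F y → y ∈ U) (W : X.Opens) :
    Function.Injective ((down F ψ τ).app W) := by
  rw [injective_iff_map_eq_zero]
  intro t ht
  refine eq_zero_of_tensor hF hR' t fun y hy hass => ?_
  obtain ⟨D, r, g, hyD, hr, hg, hform⟩ := exists_local_form (F := F) hR hP ψ y
  obtain ⟨n, hn⟩ := hform (W ⊓ D) inf_le_right (res _ inf_le_left t)
  have h1 : (down F ψ τ).app (W ⊓ D) (res _ inf_le_left t) = 0 := by
    rw [← app_res, ht, map_zero]
  rw [hn, down_tm] at h1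
  have h2 := congrArg (mgerm (CohB1.tensorMod F R) (⟨hy, hyD⟩ : y ∈ W ⊓ D)) h1
  rw [map_zero, mgerm_smul] at h2
  have hu := (hτ (W ⊓ D) (res P inf_le_right g) (hg.res _) y ⟨hy, hyD⟩).1 (hU y hass)
  have hyWD : y ∈ W ⊓ D := ⟨hy, hyD⟩
  obtain ⟨W', hyW', iU, iV, he'⟩ := TopCat.Presheaf.germ_eq (CohB1.tensorMod F R).presheaf y
    hyWD hyWD (TMul.tm n (res R inf_le_right r)) 0
    ((hu.smul_eq_zero.1 h2).trans (map_zero _).symm)
  have h3 : res F iU.le n = 0 := by
    refine (TMul.tm_bijective (hr.res (inf_le_right : W ⊓ D ≤ D)) W' iU.le).1 ?_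
    dsimp only
    rw [TMul.zero_tm, ← TMul.res_tm]
    exact he'.trans (map_zero _)
  rw [← mgerm_res _ (inf_le_left : W ⊓ D ≤ W) ⟨hy, hyD⟩ t, hn, ← mgerm_res _ iU.le hyW', TMul.res_tm, h3,
    TMul.zero_tm, map_zero]

/-- Off `U` the image of `down` lies in the maximal ideal times the stalk. -/
theorem stalkHom_down_mem (hR : PicF.IsInvertible R) (hP : PicF.IsInvertible P)
    (ψ : R' ≅ CohB1.tensorMod R P) {τ : P ⟶ Coh.structureModule X} {U : X.Opens} (hτ : IsLocusOf τ U)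
    {x : X} (hx : x ∉ U) (t : (CohB1.tensorMod F R').presheaf.stalk x) :
    stalkHom (down F ψ τ) x t ∈
      IsLocalRing.maximalIdeal (X.presheaf.stalk x) • (⊤ : Submodule (X.presheaf.stalk x) _) := by
  obtain ⟨D, r, g, hxD, hr, hg, hform⟩ := exists_local_form (F := F) hR hP ψ x
  obtain ⟨V, hxV, s, rfl⟩ := (CohB1.tensorMod F R').presheaf.exists_germ_eq (x := x) t
  obtain ⟨n, hn⟩ := hform (V ⊓ D) inf_le_right (res _ inf_le_left s)
  show stalkHom (down F ψ τ) x (mgerm _ hxV s) ∈ _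
  rw [← mgerm_res _ (inf_le_left : V ⊓ D ≤ V) ⟨hxV, hxD⟩ s, hn, stalkHom_germ, down_tm, mgerm_smul]
  refine Submodule.smul_mem_smul ?_ trivial
  rw [IsLocalRing.mem_maximalIdeal, mem_nonunits_iff]
  exact fun h => hx ((hτ _ _ (hg.res _) x _).2 h)

theorem mgerm_down_mem (hR : PicF.IsInvertible R) (hP : PicF.IsInvertible P)
    (ψ : R' ≅ CohB1.tensorMod R P) {τ : P ⟶ Coh.structureModule X} {U : X.Opens} (hτ : IsLocusOf τ U)
    {x : X} (hx : x ∉ U) {W : X.Opens} (hxW : x ∈ W) (i : ℕ) (w : Γ(CohB1.tensorMod F R', W))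
    (hw : mgerm _ hxW w ∈ IsLocalRing.maximalIdeal (X.presheaf.stalk x) ^ i •
      (⊤ : Submodule (X.presheaf.stalk x) ((CohB1.tensorMod F R').presheaf.stalk x))) :
    mgerm _ hxW ((down F ψ τ).app W w) ∈ IsLocalRing.maximalIdeal (X.presheaf.stalk x) ^ (i + 1) •
      (⊤ : Submodule (X.presheaf.stalk x) ((CohB1.tensorMod F R).presheaf.stalk x)) := by
  rw [← stalkHom_germ]
  generalize mgerm _ hxW w = z at hw ⊢
  induction hw using Submodule.smul_induction_on' with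
  | smul a ha m _ =>
    rw [stalkHom_smul, pow_succ, Submodule.mul_smul]
    exact Submodule.smul_mem_smul ha (stalkHom_down_mem hR hP ψ hτ hx m)
  | add a _ b _ ha hb => rw [map_add]; exact add_mem ha hb

end Groth.Agent.NegTwist
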