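import Groth.Agent.NegTwist.Transc

/-!
`H¹` of strongly negative twists vanishes in depth at least two.
-/

set_option autoImplicit false
set_option backward.isDefEq.respectTransparency false

universe u

open CategoryTheory CategoryTheory.Limits AlgebraicGeometry TopologicalSpace Opposite
open Groth.Agent.QC (res resO res_res res_self res_smul resO_resO app_res)
open Groth.Agent.WeakAssLib

noncomputable section

namespace Groth.Agent.NegTwist

variable {X : Scheme.{u}}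

theorem not_isAssPoint_of_depth [IsLocallyNoetherian X] {F : X.Modules} (hF : Coh.IsCoh F) {x : X}
    (hd : 2 ≤ LocCoh.depth (X.presheaf.stalk x) (F.presheaf.stalk x)) : ¬ Curv2.IsAssPoint F x := fun h => by
  haveI := finite_stalk_of_isCoh hF x
  obtain ⟨w, hw0, hw⟩ := exists_killed h
  exact hw0 (eq_zero_of_depth_two hd hw)

variable (k : Type u) [Field k] [X.Over (Spec (CommRingCat.of k))] [IsProper (X ↘ (Spec (CommRingCat.of k)))]

/-- Two sections of a positive power with transcendental ratio at the associated points. -/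
theorem exists_pencil (L : X.Modules) (hL : CohB1.IsAmple L) {M : X.Modules}
    (eM : CohB1.tensorMod L M ≅ Coh.structureModule X) (F : X.Modules) (hF : Coh.IsCoh F)
    (hass : ∀ x : X, IsClosed ({x} : Set X) → ¬ Curv2.IsAssPoint F x) :
    ∃ (n : ℕ) (_ : 0 < n) (σ τ : CohB1.tensorPow M n ⟶ Coh.structureModule X),
      (∀ (d : ℕ) (a : ℕ → k), a d = 1 → RegCoef F (CohB1.tensorPow M n) (coefPoly k σ τ d a)) ∧
        RegCoef F (CohB1.tensorPow M n) (fun D g => τ.app D g) := by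
  haveI : IsLocallyNoetherian X := LocallyOfFiniteType.isLocallyNoetherian (X ↘ (Spec (CommRingCat.of k)))
  haveI : CompactSpace X := hL.2.1
  haveI : (Coh.structureModule X).IsQuasicoherent := QC.isQCoh_unit X
  have hfin : {x : X | x ∈ (⊤ : X.Opens) ∧ Curv2.IsAssPoint F x}.Finite :=
    Groth.Agent.S1576.result X F hF ⊤ isCompact_univ
  obtain ⟨m, σ₀, hZD, -, hD⟩ := TMul.exists_finite_le hL hfin (U := ⊤) (fun x hx => hx.1)
  obtain ⟨f, hf⟩ := exists_transc k hD hfin hZD fun y hy hc => hass y hc hy.2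
  have hQ₁ := TMul.isInvertible_tensorPow hL.1 (m + 1)
  obtain ⟨k₀, hk₀⟩ := TMul.exists_twist_extends_ge (F := Coh.structureModule X) hQ₁ σ₀ f
  obtain ⟨t', ht'⟩ := hk₀ (k₀ + 1) (Nat.le_succ _)
  let Q := CohB1.tensorPow (CohB1.tensorPow L (m + 1)) (k₀ + 1)
  let q : Γ(Q, CohB1.genLocus _ σ₀) := TMul.pw (TMul.val σ₀ (CohB1.genLocus _ σ₀)) (k₀ + 1)
  let s : Coh.structureModule X ⟶ Q := TMul.homOf ((TMul.leftUnitIso Q).hom.app ⊤ t')
  have hs : TMul.val s (CohB1.genLocus _ σ₀) = f • q := by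
    rw [TMul.val_homOf, app_res, ht', TMul.twist_eq_tm σ₀ (one_smul _ _).symm, one_pow, one_smul]
    show (SecTwist.unitorR Q).hom.app _ ((TMul.commHom _ _).app _ (TMul.tm _ q)) = _
    rw [TMul.commHom_tm]
    exact ResDesc.unitorR_tm Q q f
  have ht : TMul.val (SecTwist.powHom σ₀ (k₀ + 1)) (CohB1.genLocus _ σ₀) = q :=
    (SecTwist.val_powHom σ₀ _ _).trans (TMul.pow_eq_pw σ₀ _ _)
  obtain ⟨e'⟩ := nonempty_pow_tensor_pow eM ((m + 1) * (k₀ + 1))
  obtain ⟨f₂⟩ := TMul.nonempty_powMulIso L (m + 1) (k₀ + 1)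
  let e : CohB1.tensorMod (CohB1.tensorPow M ((m + 1) * (k₀ + 1))) Q ≅ Coh.structureModule X :=
    PicGrp.tensorModIso (Iso.refl _) f₂ ≪≫ e'
  obtain ⟨ms, hms⟩ := exists_map (CohB1.tensorPow M ((m + 1) * (k₀ + 1))) s
  obtain ⟨mt, hmt⟩ := exists_map (CohB1.tensorPow M ((m + 1) * (k₀ + 1))) (SecTwist.powHom σ₀ (k₀ + 1))
  refine ⟨(m + 1) * (k₀ + 1), Nat.mul_pos m.succ_pos k₀.succ_pos, (SecTwist.unitorR _).inv ≫ ms ≫ e.hom,
    (SecTwist.unitorR _).inv ≫ mt ≫ e.hom, ?_⟩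
  have key : ∀ (D' : X.Opens) (g : Γ(CohB1.tensorPow M ((m + 1) * (k₀ + 1)), D')), TMul.IsGen g →
      ∀ u : Γ(X, D' ⊓ CohB1.genLocus _ σ₀), u = e.hom.app _
        (TMul.tm (res _ inf_le_left g) (res Q inf_le_right q)) → IsUnit u ∧
      (show Γ(X, _) from ((SecTwist.unitorR _).inv ≫ ms ≫ e.hom).app _ (res _ inf_le_left g)) =
        resO X (inf_le_right : D' ⊓ CohB1.genLocus _ σ₀ ≤ _) f * u ∧
      (show Γ(X, _) from ((SecTwist.unitorR _).inv ≫ mt ≫ e.hom).app _
        (res _ (inf_le_left : D' ⊓ CohB1.genLocus _ σ₀ ≤ D') g)) = u := fun D' g hg u hu => by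
    subst hu
    refine ⟨isUnit_app_gen e (TMul.isGen_tm (hg.res _)
      ((TMul.isGen_pw (TMul.isGen_genLocus σ₀) (k₀ + 1)).res inf_le_right)), tau_app_gen hms _ ?_, ?_⟩
    · rw [← TMul.res_val s inf_le_right, hs, res_smul]
    · refine (tau_app_gen hmt _ (c := 1) (q := res Q inf_le_right q) ?_).trans (one_mul _)
      rw [one_smul, ← TMul.res_val _ inf_le_right, ht]
  refine ⟨fun d a had D' g hg y hy hass' => ?_, fun D' g hg y hy hass' => ?_⟩
  all_goals
    have hyD : y ∈ CohB1.genLocus _ σ₀ := hZD ⟨trivial, hass'⟩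
    have hyW : y ∈ D' ⊓ CohB1.genLocus _ σ₀ := ⟨hy, hyD⟩
    obtain ⟨hu, h1, h2⟩ := key D' g hg _ rfl
    rw [← X.presheaf.germ_res_apply (homOfLE (inf_le_left : D' ⊓ CohB1.genLocus _ σ₀ ≤ D')) y hyW]
  · show IsUnit (X.presheaf.germ _ y hyW (resO X inf_le_left (coefPoly k _ _ d a D' g)))
    rw [← coefNat_coefPoly k _ _ d a _ _ inf_le_left g, coefPoly, h1, h2]
    have h3 : ∀ u : Γ(X, D' ⊓ CohB1.genLocus _ σ₀), ∑ i ∈ Finset.range (d + 1),
          ZeroSch.cst k (D' ⊓ CohB1.genLocus _ σ₀) (a i) * (resO X inf_le_right f * u) ^ i * u ^ (d - i) =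
        resO X inf_le_right (∑ i ∈ Finset.range (d + 1), ZeroSch.cst k _ (a i) * f ^ i) * u ^ d := fun u => by
      rw [map_sum, Finset.sum_mul]
      refine Finset.sum_congr rfl fun i hi => ?_
      rw [map_mul, map_pow, ZeroSch.cst_res, mul_pow, mul_assoc, mul_assoc, ← pow_add,
        Nat.add_sub_cancel' (Nat.lt_succ_iff.mp (Finset.mem_range.mp hi)), mul_assoc]
    refine Eq.subst (motive := IsUnit) (congrArg (X.presheaf.germ _ y hyW) (h3 _)).symm ?_
    rw [map_mul]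
    refine IsUnit.mul ?_ ((hu.pow d).map _)
    exact (TopCat.Presheaf.germ_res_apply X.presheaf (homOfLE inf_le_right) y hyW _).symm ▸
      hf d a had y ⟨trivial, hass'⟩
  · refine Eq.subst (motive := IsUnit) (congrArg (X.presheaf.germ _ y hyW) ?_).symm (hu.map _)
    exact (app_res _ _ g).trans h2

include k in
/-- **Enriques–Severi.** -/
theorem subsingleton_h1 (L : X.Modules) (hL : CohB1.IsAmple L) (M : X.Modules) (hM : ClSub.IsInverseOf L M)
    (F : X.Modules) (hF : Coh.IsCoh F)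
    (hdepth : ∀ x : X, IsClosed ({x} : Set X) → 2 ≤ LocCoh.depth (X.presheaf.stalk x) (F.presheaf.stalk x)) :
    ∃ m₀ : ℕ, ∀ m : ℕ, m₀ ≤ m →
      Subsingleton (Coh.HH X (CohB1.tensorMod F (CohB1.tensorPow M m)) 1) := by
  classical
  haveI : IsLocallyNoetherian X := LocallyOfFiniteType.isLocallyNoetherian (X ↘ (Spec (CommRingCat.of k)))
  haveI : F.IsQuasicoherent := hF.1
  obtain ⟨eM⟩ := id hM
  have hMi := isInvertible_inverse hL.1 eM
  obtain ⟨n, hn, σ, τ, hpoly, hτ⟩ := exists_pencil k L hL eM F hF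
    fun x hx => not_isAssPoint_of_depth hF (hdepth x hx)
  have hP := TMul.isInvertible_tensorPow hMi n
  have hvan : ∀ G : X.Modules, Coh.IsCoh G → (∀ x : X, IsClosed ({x} : Set X) → ¬ Curv2.IsAssPoint G x) →
      ∃ j₀, ∀ j, j₀ ≤ j → Subsingleton (Coh.HH X (Lev G (CohB1.tensorPow M n) j) 0) := fun G hG hGa => by
    obtain ⟨n₀, hn₀⟩ := subsingleton_h0 k L hL M hM G hG hGa
    refine ⟨n₀, fun j hj => ?_⟩
    obtain ⟨f⟩ := TMul.nonempty_powMulIso M n j
    haveI := hn₀ (n * j) (hj.trans (Nat.le_mul_of_pos_left j hn))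
    exact (CohFinite.hhEquiv k (PicGrp.tensorModIso (Iso.refl G) f) 0).toEquiv.subsingleton
  have key : ∀ r : ℕ, ∃ j₁, ∀ j, j₁ ≤ j →
      Subsingleton (Coh.HH X (CohB1.tensorMod F (CohB1.tensorPow M (r + n * j))) 1) := fun r => by
    have hr := TMul.isInvertible_tensorPow hMi r
    obtain ⟨j₁, hj₁⟩ := subsingleton_h1_levels k hP (F := CohB1.tensorMod F (CohB1.tensorPow M r))
      ⟨TMul.isQCoh_tensor hr, TMul.isFT_tensor hr hF.2⟩ (fun x hx => (depth_tensor hr x).symm ▸ hdepth x hx)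
      hvan σ τ (fun d a had D g hg y hy hy' => hpoly d a had D g hg y hy ((isAssPoint_tensor hr y).1 hy'))
      (fun D g hg y hy hy' => hτ D g hg y hy ((isAssPoint_tensor hr y).1 hy'))
    refine ⟨j₁, fun j hj => ?_⟩
    obtain ⟨f⟩ := TMul.nonempty_powMulIso M n j
    obtain ⟨g⟩ := TMul.nonempty_powAddIso M r (n * j)
    haveI : Subsingleton (Coh.HH X (Lev (CohB1.tensorMod F (CohB1.tensorPow M r)) (CohB1.tensorPow M n) j) 1) :=
      hj₁ j hj
    exact (CohFinite.hhEquiv k ((PicGrp.tensorModIso (Iso.refl F)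
      ((PicGrp.tensorModIso (Iso.refl _) f) ≪≫ g)).symm ≪≫ (TMul.assocIso _ _ _).symm) 1).toEquiv.subsingleton
  choose j₁ hj₁ using key
  refine ⟨((Finset.range n).sup j₁) * n + n, fun m hm => ?_⟩
  have h : (Finset.range n).sup j₁ ≤ m / n := (Nat.le_div_iff_mul_le hn).mpr ((Nat.le_add_right _ _).trans hm)
  have hj := hj₁ (m % n) (m / n) ((Finset.le_sup (Finset.mem_range.mpr (Nat.mod_lt m hn))).trans h)
  rwa [Nat.mod_add_div] at hj

end Groth.Agent.NegTwist
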