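import Groth.Agent.NegTwist.Basic
import Groth.Agent.RelTilde.Tensor
import Groth.Agent.ZeroSch.Over

/-!
Maps `F ⊗ P^a ⟶ F ⊗ P^b` given by a coefficient on local generators.
-/

set_option autoImplicit false
set_option backward.isDefEq.respectTransparency false

universe u

open CategoryTheory CategoryTheory.Limits AlgebraicGeometry TopologicalSpace Opposite
open Groth.Agent.QC (res resO res_res res_self res_smul resO_resO app_res)
open Groth.Agent.WeakAssLib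

noncomputable section

namespace Groth.Agent.NegTwist

variable {X : Scheme.{u}}

/-- `F ⊗ P^j`. -/
abbrev Lev (F P : X.Modules) (j : ℕ) : X.Modules := CohB1.tensorMod F (CohB1.tensorPow P j)

/-- `Φ` multiplies by `c` in local generators. -/
def HasCoef {F P : X.Modules} {a b : ℕ} (Φ : Lev F P a ⟶ Lev F P b) (c : ∀ D : X.Opens, Γ(P, D) → Γ(X, D)) : Prop :=
  ∀ (D : X.Opens) (g : Γ(P, D)), TMul.IsGen g → ∀ n : Γ(F, D),
    Φ.app D (TMul.tm n (TMul.pw g a)) = c D g • TMul.tm n (TMul.pw g b)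

variable {F P : X.Modules}

theorem exists_pw_form (hP : PicF.IsInvertible P) (a : ℕ) (x : X) :
    ∃ (U : X.Opens) (g : Γ(P, U)), x ∈ U ∧ TMul.IsGen g ∧
      ∀ (V : X.Opens) (hV : V ≤ U) (t : Γ(Lev F P a, V)),
        ∃ n : Γ(F, V), t = TMul.tm n (TMul.pw (res P hV g) a) := by
  obtain ⟨U, g, hxU, hg⟩ := TMul.exists_isGen hP x
  refine ⟨U, g, hxU, hg, fun V hV t => ?_⟩
  obtain ⟨n, hn⟩ := (TMul.tm_bijective (TMul.isGen_pw (hg.res hV) a) V le_rfl).2 t
  dsimp only at hn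
  rw [res_self] at hn
  exact ⟨n, hn.symm⟩

theorem hom_ext_pw (hP : PicF.IsInvertible P) {N : X.Modules} {a : ℕ} {φ φ' : Lev F P a ⟶ N}
    (h : ∀ (D : X.Opens) (g : Γ(P, D)), TMul.IsGen g → ∀ n : Γ(F, D),
      φ.app D (TMul.tm n (TMul.pw g a)) = φ'.app D (TMul.tm n (TMul.pw g a))) : φ = φ' := by
  refine Scheme.Modules.hom_ext _ _ fun W => ?_
  ext s
  refine QC.section_eq_of_locally fun x hx => ?_
  obtain ⟨U, g, hxU, hg, hform⟩ := exists_pw_form (F := F) hP a x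
  refine ⟨W ⊓ U, inf_le_left, ⟨hx, hxU⟩, ?_⟩
  obtain ⟨n, hn⟩ := hform (W ⊓ U) inf_le_right (res _ inf_le_left s)
  rw [app_res, app_res, hn]
  exact h _ _ (hg.res _) n

theorem HasCoef.congr {a b : ℕ} {Φ : Lev F P a ⟶ Lev F P b} {c c' : ∀ D : X.Opens, Γ(P, D) → Γ(X, D)}
    (h : HasCoef Φ c) (e : ∀ D g, c D g = c' D g) : HasCoef Φ c' :=
  fun D g hg n => by rw [← e D g]; exact h D g hg n

theorem HasCoef.eq {a b : ℕ} (hP : PicF.IsInvertible P) {Φ Φ' : Lev F P a ⟶ Lev F P b}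
    {c : ∀ D : X.Opens, Γ(P, D) → Γ(X, D)} (h : HasCoef Φ c) (h' : HasCoef Φ' c) : Φ = Φ' :=
  hom_ext_pw hP fun D g hg n => (h D g hg n).trans (h' D g hg n).symm

theorem HasCoef.comp {a b e : ℕ} {Φ : Lev F P a ⟶ Lev F P b} {Φ' : Lev F P b ⟶ Lev F P e}
    {c c' : ∀ D : X.Opens, Γ(P, D) → Γ(X, D)} (h : HasCoef Φ c) (h' : HasCoef Φ' c') :
    HasCoef (Φ ≫ Φ') (fun D g => c D g * c' D g) := fun D g hg n => by
  show Φ'.app D (Φ.app D (TMul.tm n (TMul.pw g a))) = _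
  rw [h D g hg n, Scheme.Modules.Hom.app_smul, h' D g hg n, smul_smul]

theorem HasCoef.add {a b : ℕ} {Φ Φ' : Lev F P a ⟶ Lev F P b}
    {c c' : ∀ D : X.Opens, Γ(P, D) → Γ(X, D)} (h : HasCoef Φ c) (h' : HasCoef Φ' c') :
    HasCoef (Φ + Φ') (fun D g => c D g + c' D g) := fun D g hg n => by
  show Φ.app D (TMul.tm n (TMul.pw g a)) + Φ'.app D (TMul.tm n (TMul.pw g a)) = _
  rw [h D g hg n, h' D g hg n, add_smul]

theorem hasCoef_id (a : ℕ) : HasCoef (𝟙 (Lev F P a)) (fun _ _ => 1) := fun D g _ n => by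
  rw [one_smul]; rfl

theorem hasCoef_down (τ : P ⟶ Coh.structureModule X) (j : ℕ) :
    HasCoef (F := F) (down F (Iso.refl (CohB1.tensorPow P (j + 1))) τ :
        Lev F P (j + 1) ⟶ Lev F P j) (fun D g => τ.app D g) := fun D g _ n =>
  down_tm (F := F) (Iso.refl (CohB1.tensorPow P (j + 1))) τ n (TMul.pw g j) g

/-- Multiplication by a constant. -/
theorem exists_scal (k : Type u) [Field k] [X.Over (Spec (CommRingCat.of k))] (N : X.Modules) (a : k) :
    ∃ σ : N ⟶ N, ∀ (D : X.Opens) (t : Γ(N, D)), σ.app D t = ZeroSch.cst k D a • t := by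
  obtain ⟨m, hm⟩ := exists_map N (TMul.homOf (L := Coh.structureModule X)
    (show Γ(X, ⊤) from Coh.toGlobal (X ↘ Spec (CommRingCat.of k)) a))
  refine ⟨(SecTwist.unitorR N).inv ≫ m ≫ (SecTwist.unitorR N).hom, fun D t => ?_⟩
  show (SecTwist.unitorR N).hom.app D (m.app D ((SecTwist.unitorR N).inv.app D t)) = _
  rw [unitorR_inv_app, hm, ResDesc.unitorR_tm N t]
  refine congrArg (· • t) ?_
  exact TMul.val_homOf _ D

theorem HasCoef.scal (k : Type u) [Field k] [X.Over (Spec (CommRingCat.of k))] {a b : ℕ}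
    {Φ : Lev F P a ⟶ Lev F P b} {c : ∀ D : X.Opens, Γ(P, D) → Γ(X, D)} (h : HasCoef Φ c) (x : k)
    {σ : Lev F P b ⟶ Lev F P b} (hσ : ∀ (D : X.Opens) (t : Γ(Lev F P b, D)), σ.app D t = ZeroSch.cst k D x • t) :
    HasCoef (Φ ≫ σ) (fun D g => ZeroSch.cst k D x * c D g) := fun D g hg n => by
  show σ.app D (Φ.app D (TMul.tm n (TMul.pw g a))) = _
  rw [h D g hg n, hσ, smul_smul]

theorem exists_iterate (τ : P ⟶ Coh.structureModule X) (d : ℕ) :
    ∀ j, ∃ T : Lev F P (j + d) ⟶ Lev F P j, HasCoef T (fun D g => (show Γ(X, D) from τ.app D g) ^ d) := by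
  induction d with
  | zero => exact fun j => ⟨𝟙 _, (hasCoef_id j).congr fun D g => (pow_zero _).symm⟩
  | succ d ih =>
    intro j
    obtain ⟨T, hT⟩ := ih j
    exact ⟨_, ((hasCoef_down τ (j + d)).comp hT).congr fun D g => (pow_succ' _ _).symm⟩

/-- A coefficient is regular on `F` if it is a unit at all associated points. -/
def RegCoef (F P : X.Modules) (c : ∀ D : X.Opens, Γ(P, D) → Γ(X, D)) : Prop :=
  ∀ (D : X.Opens) (g : Γ(P, D)), TMul.IsGen g → ∀ (y : X) (hy : y ∈ D), Curv2.IsAssPoint F y →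
    IsUnit (X.presheaf.germ D y hy (c D g))

theorem RegCoef.smul_eq_zero (hF : Coh.IsQCoh F) {c : ∀ D : X.Opens, Γ(P, D) → Γ(X, D)}
    (hc : RegCoef F P c) {D : X.Opens} {g : Γ(P, D)} (hg : TMul.IsGen g) {n : Γ(F, D)}
    (h : c D g • n = 0) : n = 0 := by
  refine eq_zero_of_forall hF n fun y hy hw => ?_
  have h1 := congrArg (mgerm F hy) h
  rw [map_zero, mgerm_smul] at h1
  exact (hc D g hg y hy ((isAssPoint_iff F y).2 hw)).smul_eq_zero.1 h1

theorem tm_pw_eq_zero {D : X.Opens} {g : Γ(P, D)} (hg : TMul.IsGen g) (a : ℕ) {n : Γ(F, D)}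
    (h : TMul.tm n (TMul.pw g a) = 0) : n = 0 := by
  refine (TMul.tm_bijective (TMul.isGen_pw hg a) D le_rfl).1 ?_
  dsimp only
  rw [res_self, TMul.zero_tm, h]

theorem HasCoef.app_injective {a b : ℕ} (hP : PicF.IsInvertible P) (hF : Coh.IsQCoh F)
    {Φ : Lev F P a ⟶ Lev F P b} {c : ∀ D : X.Opens, Γ(P, D) → Γ(X, D)} (h : HasCoef Φ c)
    (hc : RegCoef F P c) (W : X.Opens) : Function.Injective (Φ.app W) := by
  rw [injective_iff_map_eq_zero]
  intro t ht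
  refine QC.section_eq_of_locally fun x hx => ?_
  obtain ⟨U, g, hxU, hg, hform⟩ := exists_pw_form (F := F) hP a x
  refine ⟨W ⊓ U, inf_le_left, ⟨hx, hxU⟩, ?_⟩
  obtain ⟨n, hn⟩ := hform (W ⊓ U) inf_le_right (res _ inf_le_left t)
  have h1 : Φ.app (W ⊓ U) (res _ inf_le_left t) = 0 := by rw [← app_res, ht, map_zero]
  rw [hn, h _ _ (hg.res _) n, ← TMul.smul_tm] at h1
  rw [map_zero, hn, hc.smul_eq_zero hF (hg.res _) (tm_pw_eq_zero (hg.res _) b h1), TMul.zero_tm]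

theorem HasCoef.mono {a b : ℕ} (hP : PicF.IsInvertible P) (hF : Coh.IsQCoh F)
    {Φ : Lev F P a ⟶ Lev F P b} {c : ∀ D : X.Opens, Γ(P, D) → Γ(X, D)} (h : HasCoef Φ c)
    (hc : RegCoef F P c) : Mono Φ := by
  refine ⟨fun {Z} f f' hff => Scheme.Modules.hom_ext _ _ fun W => ?_⟩
  ext z
  exact h.app_injective hP hF hc W (congrArg (fun ψ : Z ⟶ Lev F P b => ψ.app W z) hff)

/-- `F ⊗ P^(j+d) ≅ P^j ⊗ (F ⊗ P^d)` on generators. -/
theorem exists_shift (F P : X.Modules) (j : ℕ) : ∀ d,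
    ∃ α : Lev F P (j + d) ⟶ CohB1.tensorMod (CohB1.tensorPow P j) (Lev F P d),
      ∀ (D : X.Opens) (g : Γ(P, D)) (n : Γ(F, D)),
        α.app D (TMul.tm n (TMul.pw g (j + d))) = TMul.tm (TMul.pw g j) (TMul.tm n (TMul.pw g d))
  | 0 => by
    obtain ⟨m, hm⟩ := exists_map (CohB1.tensorPow P j) (SecTwist.unitorR F).inv
    refine ⟨TMul.commHom _ _ ≫ m, fun D g n => ?_⟩
    show m.app D ((TMul.commHom _ _).app D (TMul.tm n (TMul.pw g j))) = _
    rw [TMul.commHom_tm, hm, unitorR_inv_app]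
    rfl
  | d + 1 => by
    obtain ⟨α, hα⟩ := exists_shift F P j d
    obtain ⟨m₁, hm₁⟩ := exists_map P α
    obtain ⟨m₂, hm₂⟩ := exists_map (CohB1.tensorPow P j) (TMul.assocHom F (CohB1.tensorPow P d) P)
    refine ⟨TMul.assocInv F (CohB1.tensorPow P (j + d)) P ≫ TMul.commHom _ _ ≫ m₁ ≫ TMul.commHom _ _ ≫
      TMul.assocHom _ _ _ ≫ m₂, fun D g n => ?_⟩
    show m₂.app D ((TMul.assocHom _ _ _).app D ((TMul.commHom _ _).app D (m₁.app D ((TMul.commHom _ _).app D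
      ((TMul.assocInv F (CohB1.tensorPow P (j + d)) P).app D
        (TMul.tm n (TMul.tm (TMul.pw g (j + d)) g))))))) = _
    rw [TMul.assocInv_tm, TMul.commHom_tm, hm₁, hα, TMul.commHom_tm, TMul.assocHom_tm, hm₂, TMul.assocHom_tm]
    rfl

theorem isIso_shift (hP : PicF.IsInvertible P) (j d : ℕ)
    {α : Lev F P (j + d) ⟶ CohB1.tensorMod (CohB1.tensorPow P j) (Lev F P d)}
    (hα : ∀ (D : X.Opens) (g : Γ(P, D)) (n : Γ(F, D)),
        α.app D (TMul.tm n (TMul.pw g (j + d))) = TMul.tm (TMul.pw g j) (TMul.tm n (TMul.pw g d))) :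
    IsIso α := by
  refine RelTilde.isIso_of_bijective_near _ fun x => ?_
  obtain ⟨U, g, hxU, hg⟩ := TMul.exists_isGen hP x
  refine ⟨U, hxU, fun V hV => ?_⟩
  have hgV := hg.res hV
  refine (Function.Bijective.of_comp_iff (α.app V)
    (TMul.tm_bijective (TMul.isGen_pw hgV (j + d)) V le_rfl)).1 ?_
  have hcomm : Function.Bijective ((TMul.commHom (Lev F P d) (CohB1.tensorPow P j)).app V) :=
    ConcreteCategory.bijective_of_isIso ((TMul.commIso (Lev F P d) (CohB1.tensorPow P j)).hom.app V)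
  convert (hcomm.comp (TMul.tm_bijective (TMul.isGen_pw hgV j) V le_rfl)).comp
    (TMul.tm_bijective (TMul.isGen_pw hgV d) V le_rfl) using 1
  funext n
  show α.app V (TMul.tm n (res _ le_rfl (TMul.pw (res P hV g) (j + d)))) =
    (TMul.commHom _ _).app V (TMul.tm (TMul.tm n (res _ le_rfl (TMul.pw (res P hV g) d))) (res _ le_rfl _))
  rw [res_self, res_self, res_self, hα, TMul.commHom_tm]

end Groth.Agent.NegTwist
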