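import Groth.Agent.NegTwist.H1
import Groth.Agent.NegTwist.Main
import Groth.Agent.TMul.GlobGen
import Mathlib.GroupTheory.CosetCover
import Mathlib.RingTheory.IntegralClosure.IntegrallyClosed
import Mathlib.AlgebraicGeometry.Morphisms.FiniteType

/-!
Sections whose ratio is transcendental at finitely many non-closed points, and the vanishing of `H¹` of
negative twists in depth at least two.
-/

set_option autoImplicit false
set_option backward.isDefEq.respectTransparency false

universe u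

open CategoryTheory CategoryTheory.Limits AlgebraicGeometry TopologicalSpace Opposite Polynomial
open Groth.Agent.QC (res resO res_res res_self res_smul resO_resO app_res)
open Groth.Agent.WeakAssLib

noncomputable section

namespace Groth.Agent.NegTwist

/-- Finitely many non-maximal primes admit an element transcendental modulo each of them. -/
theorem exists_transcendental {k A : Type*} [Field k] [CommRing A] [Algebra k A] {ι : Type*} [Finite ι]
    (p : ι → Ideal A) [∀ i, (p i).IsPrime] (hp : ∀ i, ¬ (p i).IsMaximal) :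
    ∃ f : A, ∀ i (d : ℕ) (a : ℕ → k), a d = 1 →
      ∑ j ∈ Finset.range (d + 1), algebraMap k A (a j) * f ^ j ∉ p i := by
  classical
  haveI := Fintype.ofFinite ι
  let S : ι → Submodule k A := fun i =>
    (Subalgebra.toSubmodule (integralClosure k (A ⧸ p i))).comap (Ideal.Quotient.mkₐ k (p i)).toLinearMap
  suffices h : ∃ f : A, ∀ i, f ∉ S i by
    obtain ⟨f, hf⟩ := h
    refine ⟨f, fun i d a had hmem => hf i ?_⟩
    show IsIntegral k (Ideal.Quotient.mkₐ k (p i) f)
    refine ⟨X ^ d + ∑ j : Fin d, C (a j) * X ^ (j : ℕ), monic_X_pow_add (degree_sum_fin_lt _), ?_⟩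
    have h0 := Ideal.Quotient.eq_zero_iff_mem.mpr hmem
    rw [Finset.sum_range_succ, had, map_one, one_mul, add_comm] at h0
    rw [← aeval_def, aeval_algHom_apply, ← h0, map_add, map_pow, aeval_X, map_sum,
      Fin.sum_univ_eq_sum_range (fun j => aeval f (C (a j) * X ^ j))]
    simp [Ideal.Quotient.mkₐ_eq_mk]
  by_contra! hcov
  have hcover : ⋃ i ∈ (Finset.univ : Finset ι), (S i : Set A) = Set.univ :=
    Set.eq_univ_of_forall fun f => Set.mem_iUnion₂.mpr ((hcov f).imp fun i hi => ⟨Finset.mem_univ i, hi⟩)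
  obtain ⟨i, -, hfi⟩ := Submodule.exists_finiteIndex_of_cover hcover
  haveI := hfi
  refine hp i (Ideal.Quotient.maximal_of_isField _ ?_)
  haveI : Algebra.IsIntegral k (A ⧸ p i) := ⟨fun z => by
    obtain ⟨f, rfl⟩ := Ideal.Quotient.mk_surjective z
    obtain ⟨m, n, hne, he⟩ := Finite.exists_ne_map_eq_of_infinite
      fun n : ℕ => (QuotientAddGroup.mk (f ^ n) : A ⧸ (S i).toAddSubgroup)
    obtain ⟨m, n, hlt, he⟩ : ∃ m n : ℕ, m < n ∧
        (QuotientAddGroup.mk (f ^ m) : A ⧸ (S i).toAddSubgroup) = QuotientAddGroup.mk (f ^ n) := by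
      rcases lt_or_gt_of_ne hne with h | h
      · exact ⟨m, n, h, he⟩
      · exact ⟨n, m, h, he.symm⟩
    rw [QuotientAddGroup.eq] at he
    let c : integralClosure k (A ⧸ p i) := ⟨Ideal.Quotient.mkₐ k (p i) (-f ^ m + f ^ n), he⟩
    refine isIntegral_trans (A := integralClosure k (A ⧸ p i)) _ ⟨X ^ n - (X ^ m + C c),
      monic_X_pow_sub (lt_of_le_of_lt (degree_add_le _ _) (max_lt ?_ ?_)), ?_⟩
    · rw [degree_X_pow]; exact_mod_cast hlt
    · exact lt_of_le_of_lt degree_C_le (by exact_mod_cast Nat.zero_lt_of_lt hlt)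
    · rw [← aeval_def, map_sub, map_add, map_pow, map_pow, aeval_X, aeval_C]
      show Ideal.Quotient.mk (p i) f ^ n -
        (Ideal.Quotient.mk (p i) f ^ m + Ideal.Quotient.mk (p i) (-f ^ m + f ^ n)) = 0
      rw [map_add, map_neg, map_pow, map_pow]
      ring⟩
  exact isField_of_isIntegral_of_isField' (Field.toIsField k)

variable {X : Scheme.{u}} (k : Type u) [Field k] [X.Over (Spec (CommRingCat.of k))]

theorem not_isMaximal_primeIdealOf [LocallyOfFiniteType (X ↘ Spec (CommRingCat.of k))] {D : X.Opens}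
    (hD : IsAffineOpen D) {y : X} (hyD : y ∈ D) (hy : ¬ IsClosed ({y} : Set X)) :
    ¬ (hD.primeIdealOf ⟨y, hyD⟩).asIdeal.IsMaximal := fun hmax => hy (by
  haveI : JacobsonSpace X := LocallyOfFiniteType.jacobsonSpace (X ↘ Spec (CommRingCat.of k))
  refine isClosed_singleton_of_isLocallyClosed_singleton ?_
  have h := (PrimeSpectrum.isClosed_singleton_iff_isMaximal _).mpr hmax
  have h' := h.isLocallyClosed.image hD.fromSpec.isOpenEmbedding.isInducing
    hD.fromSpec.isOpenEmbedding.isOpen_range.isLocallyClosed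
  rw [Set.image_singleton] at h'
  rw [hD.fromSpec_primeIdealOf ⟨y, hyD⟩] at h'
  exact h')

theorem isUnit_germ_of_not_mem {D : X.Opens} (hD : IsAffineOpen D) {y : X} (hyD : y ∈ D) {h : Γ(X, D)}
    (hh : h ∉ (hD.primeIdealOf ⟨y, hyD⟩).asIdeal) : IsUnit (X.presheaf.germ D y hyD h) := by
  rw [← X.mem_basicOpen h y hyD]
  have h1 : hD.primeIdealOf ⟨y, hyD⟩ ∈ PrimeSpectrum.basicOpen h := hh
  rw [← hD.fromSpec_preimage_basicOpen] at h1
  have h2 : hD.fromSpec (hD.primeIdealOf ⟨y, hyD⟩) ∈ X.basicOpen h := h1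
  rwa [hD.fromSpec_primeIdealOf] at h2

/-- A function on an affine open transcendental at finitely many non-closed points. -/
theorem exists_transc [LocallyOfFiniteType (X ↘ Spec (CommRingCat.of k))] {D : X.Opens}
    (hD : IsAffineOpen D) {Z : Set X} (hZ : Z.Finite) (hZD : Z ⊆ D)
    (hZc : ∀ y ∈ Z, ¬ IsClosed ({y} : Set X)) :
    ∃ f : Γ(X, D), ∀ (d : ℕ) (a : ℕ → k), a d = 1 → ∀ (y : X) (hy : y ∈ Z),
      IsUnit (X.presheaf.germ D y (hZD hy)
        (∑ j ∈ Finset.range (d + 1), ZeroSch.cst k D (a j) * f ^ j)) := by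
  letI : Algebra k Γ(X, D) := (ZeroSch.cst k D).toAlgebra
  haveI := hZ.to_subtype
  obtain ⟨f, hf⟩ := exists_transcendental (k := k) (fun y : Z => (hD.primeIdealOf ⟨y.1, hZD y.2⟩).asIdeal)
    fun y => not_isMaximal_primeIdealOf k hD (hZD y.2) (hZc y.1 y.2)
  exact ⟨f, fun d a had y hy => isUnit_germ_of_not_mem hD (hZD hy) (hf ⟨y, hy⟩ d a had)⟩

end Groth.Agent.NegTwist
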